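import Mathlib
import Cfsg.Agent.Helper9.Sp4P.Defs
import Cfsg.Agent.Helper9.Sp4P.Defs2
import Cfsg.Agent.Helper96.StN.Main

/-!
# A short presentation of `SL₃(q)` (S2287): definitions

`a : SL₂(K) →* D` (the root `e₀ - e₁`), `c : D` (the 3-cycle), the six root subgroups `X3 a c i j`,
the three tori `hh a c i`, the cross relations (three variants: `CrossO` for odd `q`, `CrossB` the
basic ones, `CrossQ` with three extra relations for `q = 4`), the tables of the torus and Weyl actions,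
the relator words and the matrix model.
-/

set_option autoImplicit false

namespace Cfsg.Agent.Helper1.SL3P

open Matrix Cfsg.Agent.Helper96.StemSLTwo Cfsg.Agent.Helper96.StPres Cfsg.Agent.Helper9.Sp4P

universe u v

variable {K : Type u} [Field K] {D : Type v} [Group D]

/-- the six root subgroups: `X01 = x`, `X10 = y`, `X12 = c x c⁻¹`, `X21 = c y c⁻¹`,
`X20 = c² x c⁻²`, `X02 = c² y c⁻²` -/
def X3 (a : SL2 K →* D) (c : D) (i j : Fin 3) (t : K) : D :=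
  match i.val, j.val with
  | 0, 1 => xe a t
  | 1, 0 => ye a t
  | 1, 2 => c * xe a t * c⁻¹
  | 2, 1 => c * ye a t * c⁻¹
  | 2, 0 => c * c * xe a t * (c * c)⁻¹
  | 0, 2 => c * c * ye a t * (c * c)⁻¹
  | _, _ => 1

/-- the three tori `h_i(s) = c^i h(s) c^{-i}` (in the model: `s` at `i`, `s⁻¹` at `i + 1`) -/
def hh (a : SL2 K →* D) (c : D) (i : Fin 3) (s : Kˣ) : D :=
  match i.val with
  | 0 => he a s
  | 1 => c * he a s * c⁻¹
  | _ => c * c * he a s * (c * c)⁻¹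

/-- the basic cross relations, `z` a generator of `Kˣ` -/
structure CrossB (a : SL2 K →* D) (c : D) (z : Kˣ) : Prop where
  c3 : c * c * c = 1
  cw : we a * c⁻¹ * we a * c⁻¹ = 1
  tc : Commute (c * he a z * c⁻¹) (he a z)
  act : (c * he a z * c⁻¹) * xe a 1 * (c * he a z * c⁻¹)⁻¹ = xe a ((z : K)⁻¹)
  wt : (c * he a z * c⁻¹) * we a * (c * he a z * c⁻¹)⁻¹ = (he a z)⁻¹ * we a
  mul : xe a 1 * (c * xe a 1 * c⁻¹) * (xe a 1)⁻¹ * (c * xe a 1 * c⁻¹)⁻¹ =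
    c * c * ye a 1 * (c * c)⁻¹

/-- the five cross relations used for odd `q` -/
structure CrossO (a : SL2 K →* D) (c : D) (z : Kˣ) : Prop where
  c3 : c * c * c = 1
  cw : we a * c⁻¹ * we a * c⁻¹ = 1
  act : (c * he a z * c⁻¹) * xe a 1 * (c * he a z * c⁻¹)⁻¹ = xe a ((z : K)⁻¹)
  wt' : (c * he a z * c⁻¹) * (he a z * we a) * (c * he a z * c⁻¹)⁻¹ = we a
  mul : xe a 1 * (c * xe a 1 * c⁻¹) * (xe a 1)⁻¹ * (c * xe a 1 * c⁻¹)⁻¹ =
    c * c * ye a 1 * (c * c)⁻¹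

/-- the three extra relations used for `q = 4` -/
structure CrossE (a : SL2 K →* D) (c : D) (z : Kˣ) : Prop where
  e1 : Commute (xe a 1) (c * c * (he a z * ye a 1 * (he a z)⁻¹) * (c * c)⁻¹)
  e2 : Commute (c * c * ye a 1 * (c * c)⁻¹) (c * (he a z * xe a 1 * (he a z)⁻¹) * c⁻¹)
  e3 : xe a 1 * (c * (he a z * xe a 1 * (he a z)⁻¹) * c⁻¹) * (xe a 1)⁻¹ *
      (c * (he a z * xe a 1 * (he a z)⁻¹) * c⁻¹)⁻¹ =
    c * c * ((he a z)⁻¹ * ye a 1 * he a z) * (c * c)⁻¹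

/-- the exponent of `s` in the action of `h_i(s)` on the root subgroup `X_jk` -/
def ch (i j k : Fin 3) : ℤ :=
  (if j = i then 1 else 0) - (if j = i + 1 then 1 else 0) - (if k = i then 1 else 0) +
    (if k = i + 1 then 1 else 0)

/-- the three tori commute and act on the six root subgroups by the characters `ch` -/
structure TorusAct3 (a : SL2 K →* D) (c : D) : Prop where
  comm : ∀ (i i' : Fin 3) (s s' : Kˣ), Commute (hh a c i s) (hh a c i' s')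
  act : ∀ (i j k : Fin 3) (s : Kˣ) (t : K),
    hh a c i s * X3 a c j k t * (hh a c i s)⁻¹ = X3 a c j k (((s ^ ch i j k : Kˣ) : K) * t)

/-- the signs of the Weyl element `w = w₀₁(1)`: `w e₀ = -e₁`, `w e₁ = e₀`, `w e₂ = e₂` -/
def eta (i : Fin 3) : ℤ := if i = 0 then -1 else 1

/-- the 3-cycle and the Weyl element permute the six root subgroups -/
structure WeylAct3 (a : SL2 K →* D) (c : D) : Prop where
  cact : ∀ (i j : Fin 3) (t : K), c * X3 a c i j t * c⁻¹ = X3 a c (i + 1) (j + 1) t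
  wact : ∀ (i j : Fin 3) (t : K), we a * X3 a c i j t * (we a)⁻¹ =
    X3 a c (Equiv.swap 0 1 i) (Equiv.swap 0 1 j) (((eta i * eta j : ℤ) : K) * t)

/-- the relations between `X01`, `X12`, `X02` for all parameters -/
structure Full012 (a : SL2 K →* D) (c : D) : Prop where
  m : ∀ t u : K, X3 a c 0 1 t * X3 a c 1 2 u * (X3 a c 0 1 t)⁻¹ * (X3 a c 1 2 u)⁻¹ =
    X3 a c 0 2 (t * u)
  c1 : ∀ t u : K, Commute (X3 a c 0 1 t) (X3 a c 0 2 u)
  c2 : ∀ t u : K, Commute (X3 a c 1 2 t) (X3 a c 0 2 u)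

/-- the relations between `X01`, `X12`, `X02` on the torus orbit of `(1, 1)` -/
structure Fam012 (a : SL2 K →* D) (c : D) : Prop where
  m : ∀ s r : Kˣ,
    X3 a c 0 1 ((s : K) ^ 2 * (r : K)⁻¹) * X3 a c 1 2 ((s : K)⁻¹ * (r : K) ^ 2) *
      (X3 a c 0 1 ((s : K) ^ 2 * (r : K)⁻¹))⁻¹ * (X3 a c 1 2 ((s : K)⁻¹ * (r : K) ^ 2))⁻¹ =
    X3 a c 0 2 ((s : K) * r)
  c1 : ∀ s r : Kˣ, Commute (X3 a c 0 1 ((s : K) ^ 2 * (r : K)⁻¹)) (X3 a c 0 2 ((s : K) * r))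
  c2 : ∀ s r : Kˣ, Commute (X3 a c 1 2 ((s : K)⁻¹ * (r : K) ^ 2)) (X3 a c 0 2 ((s : K) * r))

/-- the six basic cross relator words in `u = x(1)`, `h = h(z)`, `w = w(1)`, `g = x(z⁻¹)` and `c` -/
def wordsB {G : Type*} [Group G] (u h w g c : G) : List G :=
  [c * c * c,
   w * c⁻¹ * w * c⁻¹,
   (c * h * c⁻¹) * h * (c * h * c⁻¹)⁻¹ * h⁻¹,
   (c * h * c⁻¹) * u * (c * h * c⁻¹)⁻¹ * g⁻¹,
   (c * h * c⁻¹) * w * (c * h * c⁻¹)⁻¹ * (h⁻¹ * w)⁻¹,
   u * (c * u * c⁻¹) * u⁻¹ * (c * u * c⁻¹)⁻¹ * (c * c * (w * u⁻¹ * w⁻¹) * (c * c)⁻¹)⁻¹]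

/-- the five cross relator words for odd `q` -/
def wordsO {G : Type*} [Group G] (u h w g c : G) : List G :=
  [c * c * c,
   w * c⁻¹ * w * c⁻¹,
   (c * h * c⁻¹) * u * (c * h * c⁻¹)⁻¹ * g⁻¹,
   (c * h * c⁻¹) * (h * w) * (c * h * c⁻¹)⁻¹ * w⁻¹,
   u * (c * u * c⁻¹) * u⁻¹ * (c * u * c⁻¹)⁻¹ * (c * c * (w * u⁻¹ * w⁻¹) * (c * c)⁻¹)⁻¹]

/-- the three extra relator words for `q = 4` -/
def wordsE {G : Type*} [Group G] (u h w c : G) : List G :=
  [u * (c * c * (h * (w * u⁻¹ * w⁻¹) * h⁻¹) * (c * c)⁻¹) * u⁻¹ *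
     (c * c * (h * (w * u⁻¹ * w⁻¹) * h⁻¹) * (c * c)⁻¹)⁻¹,
   (c * c * (w * u⁻¹ * w⁻¹) * (c * c)⁻¹) * (c * (h * u * h⁻¹) * c⁻¹) *
     (c * c * (w * u⁻¹ * w⁻¹) * (c * c)⁻¹)⁻¹ * (c * (h * u * h⁻¹) * c⁻¹)⁻¹,
   u * (c * (h * u * h⁻¹) * c⁻¹) * u⁻¹ * (c * (h * u * h⁻¹) * c⁻¹)⁻¹ *
     (c * c * (h⁻¹ * (w * u⁻¹ * w⁻¹) * h) * (c * c)⁻¹)⁻¹]

theorem length_wordsB {G : Type*} [Group G] (u h w g c : G) : (wordsB u h w g c).length = 6 := rfl

theorem length_wordsO {G : Type*} [Group G] (u h w g c : G) : (wordsO u h w g c).length = 5 := rfl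

theorem length_wordsE {G : Type*} [Group G] (u h w c : G) : (wordsE u h w c).length = 3 := rfl

theorem map_wordsB {G H : Type*} [Group G] [Group H] (φ : G →* H) (u h w g c : G) :
    (wordsB u h w g c).map φ = wordsB (φ u) (φ h) (φ w) (φ g) (φ c) := by
  simp only [wordsB, List.map_cons, List.map_nil, map_mul, map_inv]

theorem map_wordsO {G H : Type*} [Group G] [Group H] (φ : G →* H) (u h w g c : G) :
    (wordsO u h w g c).map φ = wordsO (φ u) (φ h) (φ w) (φ g) (φ c) := by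
  simp only [wordsO, List.map_cons, List.map_nil, map_mul, map_inv]

theorem map_wordsE {G H : Type*} [Group G] [Group H] (φ : G →* H) (u h w c : G) :
    (wordsE u h w c).map φ = wordsE (φ u) (φ h) (φ w) (φ c) := by
  simp only [wordsE, List.map_cons, List.map_nil, map_mul, map_inv]

section model

variable (F : Type u) [Field F]

/-- `SL₃(F)` -/
abbrev SL3 (F : Type u) [Field F] := Matrix.SpecialLinearGroup (Fin 3) F

/-- the matrix of the embedding of `SL₂(F)` in the upper left corner -/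
def eAMat (g : Matrix (Fin 2) (Fin 2) F) : Matrix (Fin 3) (Fin 3) F :=
  !![g 0 0, g 0 1, 0; g 1 0, g 1 1, 0; 0, 0, 1]

theorem eAMat_mul (g g' : Matrix (Fin 2) (Fin 2) F) :
    eAMat F (g * g') = eAMat F g * eAMat F g' := by
  ext i j
  fin_cases i <;> fin_cases j <;>
    simp [eAMat, Matrix.mul_apply, Fin.sum_univ_two, Fin.sum_univ_three]

theorem eAMat_one : eAMat F (1 : Matrix (Fin 2) (Fin 2) F) = 1 := by
  ext i j
  fin_cases i <;> fin_cases j <;> simp [eAMat]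

theorem det_eAMat (g : Matrix (Fin 2) (Fin 2) F) : (eAMat F g).det = g.det := by
  rw [eAMat, Matrix.det_fin_three, Matrix.det_fin_two]
  simp

/-- the embedding of `SL₂(F)` in the upper left corner of `SL₃(F)` -/
def eA : SL2 F →* SL3 F where
  toFun g := ⟨eAMat F g.1, by rw [det_eAMat]; exact g.2⟩
  map_one' := Subtype.ext (eAMat_one F)
  map_mul' g g' := Subtype.ext (eAMat_mul F g.1 g'.1)

theorem coe_eA (g : SL2 F) :
    ((eA F g : SL3 F) : Matrix (Fin 3) (Fin 3) F) =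
      !![g.1 0 0, g.1 0 1, 0; g.1 1 0, g.1 1 1, 0; 0, 0, 1] := rfl

/-- the 3-cycle `e₀ ↦ e₁ ↦ e₂ ↦ e₀` -/
def cM : SL3 F :=
  ⟨!![0, 0, 1; 1, 0, 0; 0, 1, 0], by rw [Matrix.det_fin_three]; simp⟩

theorem coe_cM : ((cM F : SL3 F) : Matrix (Fin 3) (Fin 3) F) = !![0, 0, 1; 1, 0, 0; 0, 1, 0] := rfl

end model

end Cfsg.Agent.Helper1.SL3P
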