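import Mathlib
import Cfsg.Agent.Helper1.SL3P.Defs
import Cfsg.Agent.Helper9.Sp4P.P_SL2F
import Cfsg.Agent.Helper9.Sp4P.P_EXT1
import Cfsg.Agent.Helper9.Sp4P.P_SQ
import Cfsg.Agent.Helper9.Sp4P.P_CW

/-!
# S2287 piece (ACTX) -- see `tools/helper1_s2287/README.md` and board WANTED of helper1.
-/

set_option autoImplicit false

namespace Cfsg.Agent.Helper1.SL3P

open Matrix Cfsg.Agent.Helper96.StemSLTwo Cfsg.Agent.Helper96.StPres Cfsg.Agent.Helper9.Sp4P
  Cfsg.Agent.Helper96.StN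

universe u v

variable {K : Type u} [Field K] {D : Type v} [Group D]


theorem ACTX_he_one (a : SL2 K →* D) : he a 1 = 1 := by
  have h := (sl2Facts a).h_mul 1 1
  rw [mul_one] at h
  exact (mul_eq_left.1 h.symm)

theorem ACTX_conj_mul (c g g' : D) : c * (g * g') * c⁻¹ = (c * g * c⁻¹) * (c * g' * c⁻¹) := by
  simp only [mul_assoc, inv_mul_cancel_left]

theorem act_x [Fintype K] {a : SL2 K →* D} {c : D} {z : Kˣ} (hz : ∀ s : Kˣ, ∃ n : ℕ, z ^ n = s)
    (htc : ∀ s s' : Kˣ, Commute (c * he a s * c⁻¹) (he a s'))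
    (hact : (c * he a z * c⁻¹) * xe a 1 * (c * he a z * c⁻¹)⁻¹ = xe a ((z : K)⁻¹)) :
    ∀ (s : Kˣ) (t : K),
      (c * he a s * c⁻¹) * xe a t * (c * he a s * c⁻¹)⁻¹ = xe a ((s : K)⁻¹ * t) := by
  have F := sl2Facts a
  -- the case `s = z`
  have hbase : ∀ t, (c * he a z * c⁻¹) * xe a t * (c * he a z * c⁻¹)⁻¹ = xe a ((z : K)⁻¹ * t) := by
    refine conj_ext (xe a) (xe a) F.x_add F.x_add (c * he a z * c⁻¹) ((z : K)⁻¹) (he a) (he a)
      F.h_x F.h_x ?_ hact
    intro s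
    have h : (c * he a z * c⁻¹) * he a s = he a s * (c * he a z * c⁻¹) := htc z s
    rw [h, mul_assoc, mul_inv_cancel, mul_one]
  -- powers
  have hpow : ∀ (n : ℕ) (t : K),
      (c * he a (z ^ n) * c⁻¹) * xe a t * (c * he a (z ^ n) * c⁻¹)⁻¹ =
        xe a (((z ^ n : Kˣ) : K)⁻¹ * t) := by
    intro n
    induction n with
    | zero =>
      intro t
      rw [pow_zero, ACTX_he_one]
      simp
    | succ n ih =>
      intro t
      rw [pow_succ, F.h_mul, ACTX_conj_mul]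
      have e : (c * he a (z ^ n) * c⁻¹ * (c * he a z * c⁻¹)) * xe a t *
          (c * he a (z ^ n) * c⁻¹ * (c * he a z * c⁻¹))⁻¹ =
          (c * he a (z ^ n) * c⁻¹) * ((c * he a z * c⁻¹) * xe a t * (c * he a z * c⁻¹)⁻¹) *
            (c * he a (z ^ n) * c⁻¹)⁻¹ := by
        simp only [mul_assoc, _root_.mul_inv_rev]
      rw [e, hbase, ih]
      congr 1
      simp only [Units.val_mul, _root_.mul_inv_rev]
      ring
  intro s t
  obtain ⟨n, rfl⟩ := hz s
  exact hpow n t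

end Cfsg.Agent.Helper1.SL3P
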