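import Mathlib
import Cfsg.Agent.Helper1.SL3P.Defs
import Cfsg.Agent.Helper9.Sp4P.P_SL2F
import Cfsg.Agent.Helper9.Sp4P.P_EXT1
import Cfsg.Agent.Helper9.Sp4P.P_SQ
import Cfsg.Agent.Helper9.Sp4P.P_CW

/-!
# S2287 piece (ACTY) -- see `tools/helper1_s2287/README.md` and board WANTED of helper1.
-/

set_option autoImplicit false

namespace Cfsg.Agent.Helper1.SL3P

open Matrix Cfsg.Agent.Helper96.StemSLTwo Cfsg.Agent.Helper96.StPres Cfsg.Agent.Helper9.Sp4P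
  Cfsg.Agent.Helper96.StN

universe u v

variable {K : Type u} [Field K] {D : Type v} [Group D]

/-- conjugation of a conjugate, in any group -/
theorem ACTY_conj {G : Type*} [Group G] (g w x : G) :
    g * (w * x * w⁻¹) * g⁻¹ = (g * w * g⁻¹) * (g * x * g⁻¹) * (g * w * g⁻¹)⁻¹ := by group

theorem act_y {a : SL2 K →* D} {c : D}
    (hx : ∀ (s : Kˣ) (t : K),
      (c * he a s * c⁻¹) * xe a t * (c * he a s * c⁻¹)⁻¹ = xe a ((s : K)⁻¹ * t))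
    (hw : ∀ s : Kˣ, (c * he a s * c⁻¹) * we a * (c * he a s * c⁻¹)⁻¹ = (he a s)⁻¹ * we a) :
    ∀ (s : Kˣ) (t : K),
      (c * he a s * c⁻¹) * ye a t * (c * he a s * c⁻¹)⁻¹ = ye a ((s : K) * t) := by
  have F := sl2Facts a
  intro s t
  have hs : (s : K) ≠ 0 := s.ne_zero
  -- y(t) = w x(-t) w⁻¹
  have hy : ye a t = we a * xe a (-t) * (we a)⁻¹ := by
    rw [F.w_x, neg_neg]
  rw [hy, ACTY_conj, hw s, hx s (-t)]
  -- (h⁻¹ w) x(s⁻¹ (-t)) (h⁻¹ w)⁻¹ = h⁻¹ (w x(..) w⁻¹) h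
  have h1 : (he a s)⁻¹ * we a * xe a ((s : K)⁻¹ * -t) * ((he a s)⁻¹ * we a)⁻¹ =
      (he a s)⁻¹ * (we a * xe a ((s : K)⁻¹ * -t) * (we a)⁻¹) * he a s := by group
  rw [h1, F.w_x]
  -- h⁻¹ y(u) h = y(s² u)
  have h2 := F.h_y s ((s : K) * t)
  have h3 : ((s : K)⁻¹) ^ 2 * ((s : K) * t) = -((s : K)⁻¹ * -t) := by
    field_simp
  rw [h3] at h2
  rw [← h2]
  group

end Cfsg.Agent.Helper1.SL3P
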