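import Mathlib
import Cfsg.Agent.Helper1.SL3P.Defs
import Cfsg.Agent.Helper9.Sp4P.P_SL2F
import Cfsg.Agent.Helper9.Sp4P.P_EXT1
import Cfsg.Agent.Helper9.Sp4P.P_SQ
import Cfsg.Agent.Helper9.Sp4P.P_CW

/-!
# S2287 piece (CWE) -- see `tools/helper1_s2287/README.md` and board WANTED of helper1.
(filled by helper15)
-/

set_option autoImplicit false

namespace Cfsg.Agent.Helper1.SL3P

open Matrix Cfsg.Agent.Helper96.StemSLTwo Cfsg.Agent.Helper96.StPres Cfsg.Agent.Helper9.Sp4P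
  Cfsg.Agent.Helper96.StN

universe u v

variable {K : Type u} [Field K] {D : Type v} [Group D]

theorem crossE_iff_words (a : SL2 K →* D) (c : D) (z : Kˣ) :
    CrossE a c z ↔ ∀ w ∈ wordsE (xe a 1) (he a z) (we a) c, w = 1 := by
  constructor
  · intro hc w hw
    simp only [wordsE, List.mem_cons, List.not_mem_nil, or_false] at hw
    rcases hw with rfl | rfl | rfl
    · have := hc.e1
      rw [CW_ye_one] at this
      exact (CW_commute_iff _ _).mpr this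
    · have := hc.e2
      rw [CW_ye_one] at this
      exact (CW_commute_iff _ _).mpr this
    · have := hc.e3
      rw [CW_ye_one] at this
      exact mul_inv_eq_one.mpr this
  · intro h
    have w1 : xe a 1 * (c * c * (he a z * (we a * (xe a 1)⁻¹ * (we a)⁻¹) * (he a z)⁻¹) * (c * c)⁻¹) *
        (xe a 1)⁻¹ *
        (c * c * (he a z * (we a * (xe a 1)⁻¹ * (we a)⁻¹) * (he a z)⁻¹) * (c * c)⁻¹)⁻¹ = 1 :=
      h _ (by simp [wordsE])
    have w2 : (c * c * (we a * (xe a 1)⁻¹ * (we a)⁻¹) * (c * c)⁻¹) *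
        (c * (he a z * xe a 1 * (he a z)⁻¹) * c⁻¹) *
        (c * c * (we a * (xe a 1)⁻¹ * (we a)⁻¹) * (c * c)⁻¹)⁻¹ *
        (c * (he a z * xe a 1 * (he a z)⁻¹) * c⁻¹)⁻¹ = 1 :=
      h _ (by simp [wordsE])
    have w3 : xe a 1 * (c * (he a z * xe a 1 * (he a z)⁻¹) * c⁻¹) * (xe a 1)⁻¹ *
        (c * (he a z * xe a 1 * (he a z)⁻¹) * c⁻¹)⁻¹ *
        (c * c * ((he a z)⁻¹ * (we a * (xe a 1)⁻¹ * (we a)⁻¹) * he a z) * (c * c)⁻¹)⁻¹ = 1 :=
      h _ (by simp [wordsE])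
    refine ⟨?_, ?_, ?_⟩
    · rw [CW_ye_one]
      exact (CW_commute_iff _ _).mp w1
    · rw [CW_ye_one]
      exact (CW_commute_iff _ _).mp w2
    · rw [CW_ye_one]
      exact mul_inv_eq_one.mp w3

end Cfsg.Agent.Helper1.SL3P
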