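import Mathlib
import Cfsg.Agent.Helper1.SL3P.Defs
import Cfsg.Agent.Helper9.Sp4P.P_SL2F
import Cfsg.Agent.Helper9.Sp4P.P_EXT1
import Cfsg.Agent.Helper9.Sp4P.P_SQ
import Cfsg.Agent.Helper9.Sp4P.P_CW

/-!
# S2287 piece (CWO) -- see `tools/helper1_s2287/README.md` and board WANTED of helper1.
(filled by helper15)
-/

set_option autoImplicit false

namespace Cfsg.Agent.Helper1.SL3P

open Matrix Cfsg.Agent.Helper96.StemSLTwo Cfsg.Agent.Helper96.StPres Cfsg.Agent.Helper9.Sp4P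
  Cfsg.Agent.Helper96.StN

universe u v

variable {K : Type u} [Field K] {D : Type v} [Group D]

theorem crossO_iff_words (a : SL2 K →* D) (c : D) (z : Kˣ) :
    CrossO a c z ↔
      ∀ w ∈ wordsO (xe a 1) (he a z) (we a) (xe a ((z : K)⁻¹)) c, w = 1 := by
  constructor
  · intro hc w hw
    simp only [wordsO, List.mem_cons, List.not_mem_nil, or_false] at hw
    rcases hw with rfl | rfl | rfl | rfl | rfl
    · exact hc.c3
    · exact hc.cw
    · exact mul_inv_eq_one.mpr hc.act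
    · exact mul_inv_eq_one.mpr hc.wt'
    · have := hc.mul
      rw [CW_ye_one] at this
      exact mul_inv_eq_one.mpr this
  · intro h
    have w1 : c * c * c = 1 := h _ (by simp [wordsO])
    have w2 : we a * c⁻¹ * we a * c⁻¹ = 1 := h _ (by simp [wordsO])
    have w3 : (c * he a z * c⁻¹) * xe a 1 * (c * he a z * c⁻¹)⁻¹ * (xe a ((z : K)⁻¹))⁻¹ = 1 :=
      h _ (by simp [wordsO])
    have w4 : (c * he a z * c⁻¹) * (he a z * we a) * (c * he a z * c⁻¹)⁻¹ * (we a)⁻¹ = 1 :=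
      h _ (by simp [wordsO])
    have w5 : xe a 1 * (c * xe a 1 * c⁻¹) * (xe a 1)⁻¹ * (c * xe a 1 * c⁻¹)⁻¹ *
        (c * c * (we a * (xe a 1)⁻¹ * (we a)⁻¹) * (c * c)⁻¹)⁻¹ = 1 :=
      h _ (by simp [wordsO])
    refine ⟨w1, w2, ?_, ?_, ?_⟩
    · exact mul_inv_eq_one.mp w3
    · exact mul_inv_eq_one.mp w4
    · rw [CW_ye_one]
      exact mul_inv_eq_one.mp w5

end Cfsg.Agent.Helper1.SL3P
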