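import Mathlib
import Cfsg.Agent.Helper1.SL3P.Defs
import Cfsg.Agent.Helper9.Sp4P.P_DATA

/-!
# S2287 piece (DATA2) -- see `tools/helper1_s2287/README.md` and board WANTED of helper1.
The even branch of Helper9's `exists_sl2Pres` with the bound `5`.
-/

set_option autoImplicit false

namespace Cfsg.Agent.Helper1.SL3P

open Matrix Cfsg.Agent.Helper96.StemSLTwo Cfsg.Agent.Helper96.StPres Cfsg.Agent.Helper9.Sp4P

universe u v

theorem exists_sl2Pres_even (F : Type u) [Field F] [Fintype F] (h2 : (2 : F) = 0) :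
    ∃ d : SL2Pres F, d.rels.card ≤ 5 := by
  haveI : CharP F 2 := CharTwo.of_one_ne_zero_of_two_eq_zero one_ne_zero h2
  have hunits : ∀ (z : F) (hz0 : z ≠ 0), (∀ s : F, s ≠ 0 → ∃ n : ℕ, z ^ n = s) →
      ∀ s : Fˣ, ∃ n : ℕ, (Units.mk0 z hz0) ^ n = s := by
    intro z hz0 hz s
    obtain ⟨n, hn⟩ := hz (s : F) s.ne_zero
    refine ⟨n, ?_⟩
    apply Units.ext
    rw [Units.val_pow_eq_pow_val, Units.val_mk0, hn]
  letI : Algebra (ZMod 2) F := ZMod.algebra F 2
  obtain ⟨d⟩ := Cfsg.Agent.Helper96.SLPres.exists_evenData (F := F)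
  refine ⟨{ rels := d.rels, pi := d.pi, bij := d.pi_bijective'.1, z := Units.mk0 d.z d.hz0,
            hz := hunits d.z d.hz0 d.hz,
            uw := FreeGroup.of 0, hw := FreeGroup.of 1,
            ww := FreeGroup.of 0 * FreeGroup.of 2 * FreeGroup.of 0,
            gw := Cfsg.Agent.Helper96.SLPres.PW 2 (FreeGroup.of 1) (FreeGroup.of 0) d.g,
            pi_u := ?_, pi_h := ?_, pi_w := ?_, pi_g := ?_ }, ?_⟩
  · exact d.pi_of 0
  · exact d.pi_of 1
  · simp only [map_mul]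
    change d.pi (PresentedGroup.of 0) * d.pi (PresentedGroup.of 2) * d.pi (PresentedGroup.of 0) = _
    rw [d.pi_of, d.pi_of]
    exact Cfsg.Agent.Helper96.SLPres.t_SL
  · rw [Cfsg.Agent.Helper96.SLPres.map_PW, Cfsg.Agent.Helper96.SLPres.map_PW]
    change Cfsg.Agent.Helper96.SLPres.PW 2 (d.pi (PresentedGroup.of 1)) (d.pi (PresentedGroup.of 0)) d.g = _
    rw [d.pi_of, d.pi_of]
    change Cfsg.Agent.Helper96.SLPres.PW 2 (dMat d.z d.hz0) (uMat F 1) d.g = _
    rw [Cfsg.Agent.Helper96.SLPres.PW_SL, d.hg]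
    rfl
  · exact Cfsg.Agent.Helper96.SLPres.card_evenRels _ _ _ _ _

end Cfsg.Agent.Helper1.SL3P
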