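import Mathlib
import Cfsg.Agent.Helper1.SL3P.Defs
import Cfsg.Agent.Helper9.Sp4P.P_SL2F
import Cfsg.Agent.Helper9.Sp4P.P_EXT1
import Cfsg.Agent.Helper9.Sp4P.P_SQ
import Cfsg.Agent.Helper9.Sp4P.P_CW
import Cfsg.Agent.Helper46.SL2SubfieldGen

/-!
# S2287 piece (DICK) -- see `tools/helper1_s2287/README.md` and board WANTED of helper1.
-/

set_option autoImplicit false

namespace Cfsg.Agent.Helper1.SL3P

open Matrix Cfsg.Agent.Helper96.StemSLTwo Cfsg.Agent.Helper96.StPres Cfsg.Agent.Helper9.Sp4P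
  Cfsg.Agent.Helper96.StN

universe u v

variable {K : Type u} [Field K] {D : Type v} [Group D]

theorem DICK_uMat_natCast (n : ℕ) : uMat K (n : K) = (uMat K 1) ^ n := by
  induction n with
  | zero => rw [Nat.cast_zero, uMat_zero, pow_zero]
  | succ n ih => rw [Nat.cast_succ, uMat_add, ih, pow_succ]

theorem DICK_lMat_zero : lMat K 0 = 1 := by
  apply Subtype.ext
  rw [Matrix.SpecialLinearGroup.coe_one, lMat_coe]
  ext i j
  fin_cases i <;> fin_cases j <;> simp

theorem DICK_lMat_mul_natCast (θ : K) (n : ℕ) : lMat K (θ * n) = (lMat K θ) ^ n := by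
  induction n with
  | zero => rw [Nat.cast_zero, mul_zero, DICK_lMat_zero, pow_zero]
  | succ n ih => rw [Nat.cast_succ, mul_add, mul_one, lMat_add, ih, pow_succ]

theorem DICK_conj (z : K) (hz : z ≠ 0) :
    (dMat z hz * WU (1 : K)) * uMat K 1 * (dMat z hz * WU (1 : K))⁻¹ =
      lMat K ((z⁻¹) ^ 2 * (-1)) := by
  have h : dMat z hz * WU (1 : K) * uMat K 1 * (dMat z hz * WU (1 : K))⁻¹ =
      dMat z hz * (WU (1 : K) * uMat K 1 * (WU (1 : K))⁻¹) * (dMat z hz)⁻¹ := by group
  rw [h, SL2F_WU_one_conj_uMat, SL2F_dMat_conj_lMat]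

/-- every element of a finite field of odd or even order is in a subfield containing the squares
of a generator's powers -/
theorem DICK_subfield_top [Fintype K] (L : Subfield K) {z : Kˣ}
    (hz : ∀ s : Kˣ, ∃ n : ℕ, z ^ n = s) (hzL : (z : K) ^ 2 ∈ L) : L = ⊤ := by
  have hsq : ∀ a : K, a ^ 2 ∈ L := by
    intro a
    by_cases ha : a = 0
    · rw [ha, zero_pow two_ne_zero]
      exact L.zero_mem
    · obtain ⟨n, hn⟩ := hz (Units.mk0 a ha)
      have h1 : a = (z : K) ^ n := by
        have := congrArg Units.val hn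
        rw [Units.val_pow_eq_pow_val, Units.val_mk0] at this
        exact this.symm
      rw [h1, ← pow_mul, mul_comm, pow_mul]
      exact pow_mem hzL n
  rw [eq_top_iff]
  intro c _
  obtain ⟨a, b, hab⟩ := SQ_exists_sq_add_sq c
  rw [← hab]
  exact L.add_mem (hsq a) (hsq b)

theorem closure_u_hw [Fintype K] (h2 : (2 : K) ≠ 0) (h9 : Fintype.card K ≠ 9) {z : Kˣ}
    (hz : ∀ s : Kˣ, ∃ n : ℕ, z ^ n = s) :
    Subgroup.closure {uMat K 1, dMat (z : K) z.ne_zero * WU (1 : K)} = ⊤ := by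
  classical
  -- the prime field
  obtain ⟨p, hp⟩ := CharP.exists K
  have : CharP K p := hp
  have : Fact p.Prime := ⟨CharP.char_is_prime K p⟩
  set F0 : Subfield K := (ZMod.castHom (dvd_refl p) K).fieldRange with hF0
  have hF0nat : ∀ c ∈ F0, ∃ n : ℕ, c = (n : K) := by
    intro c hc
    obtain ⟨x, hx⟩ := RingHom.mem_fieldRange.1 hc
    refine ⟨x.val, ?_⟩
    rw [← hx]
    conv_lhs => rw [← ZMod.natCast_zmod_val x]
    rw [map_natCast]
  set θ : K := ((z : K)⁻¹) ^ 2 * (-1) with hθ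
  have hz0 : (z : K) ≠ 0 := z.ne_zero
  have hθ0 : θ ≠ 0 := by
    rw [hθ]
    exact mul_ne_zero (pow_ne_zero _ (inv_ne_zero hz0)) (neg_ne_zero.2 one_ne_zero)
  set H : Subgroup (SL2 K) :=
    Subgroup.closure {uMat K 1, dMat (z : K) z.ne_zero * WU (1 : K)} with hH
  have hxH : uMat K 1 ∈ H := Subgroup.subset_closure (by simp)
  have hgH : dMat (z : K) z.ne_zero * WU (1 : K) ∈ H := Subgroup.subset_closure (by simp)
  have hyH : lMat K θ ∈ H := by
    rw [hθ, ← DICK_conj (z : K) z.ne_zero]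
    exact H.mul_mem (H.mul_mem hgH hxH) (H.inv_mem hgH)
  -- the exceptional case is excluded
  have hexc : ¬ (Nat.card F0 = 3 ∧ θ ^ 2 = -1) := by
    rintro ⟨-, h⟩
    apply h9
    have h4 : (z : K) ^ 4 = -1 := by
      have h' : θ ^ 2 = ((z : K) ^ 4)⁻¹ := by
        rw [hθ]; field_simp
      rw [h'] at h
      have := congrArg (fun x => x⁻¹) h
      simp only [inv_inv] at this
      rw [this, inv_neg, inv_one]
    have h8 : z ^ 8 = 1 := by
      apply Units.ext
      rw [Units.val_pow_eq_pow_val, Units.val_one]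
      have : (z : K) ^ 8 = ((z : K) ^ 4) ^ 2 := by ring
      rw [this, h4]; ring
    have hn4 : z ^ 4 ≠ 1 := by
      intro h1
      have := congrArg Units.val h1
      rw [Units.val_pow_eq_pow_val, Units.val_one, h4] at this
      apply h2
      have h3 : (2 : K) = 1 - (-1) := by ring
      rw [h3, this]; ring
    have hd8 : orderOf z ∣ 8 := orderOf_dvd_of_pow_eq_one h8
    have hd4 : ¬ orderOf z ∣ 4 := fun hd => hn4 (orderOf_dvd_iff_pow_eq_one.1 hd)
    have ho : orderOf z = 8 := by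
      have hle : orderOf z ≤ 8 := Nat.le_of_dvd (by norm_num) hd8
      interval_cases h : orderOf z <;> simp_all
    have hcard : orderOf z = Nat.card Kˣ := by
      apply orderOf_eq_card_of_forall_mem_zpowers
      intro s
      obtain ⟨n, hn⟩ := hz s
      exact ⟨(n : ℤ), by simpa using hn⟩
    rw [Nat.card_units, ho, Nat.card_eq_fintype_card] at hcard
    have hpos : 0 < Fintype.card K := Fintype.card_pos
    omega
  have h2' : (2 : K) = 0 → 4 ≤ Nat.card F0 := fun h => absurd h h2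
  -- the subfield generated is everything
  have hL : Subfield.closure ((F0 : Set K) ∪ {θ}) = ⊤ := by
    apply DICK_subfield_top _ hz
    have hθL : θ ∈ Subfield.closure ((F0 : Set K) ∪ {θ}) :=
      Subfield.subset_closure (Or.inr rfl)
    have h1 : (z : K) ^ 2 = -θ⁻¹ := by
      rw [hθ]; field_simp
    rw [h1]
    exact neg_mem (inv_mem hθL)
  -- the generators of helper46's theorem lie in `H`
  have hsub : Subgroup.closure
      ({g : SL2 K | ∃ c ∈ F0, g = Cfsg.Agent.Helper46.Dk.uU c} ∪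
        {g : SL2 K | ∃ c ∈ F0, g = Cfsg.Agent.Helper46.Dk.vV (θ * c)}) ≤ H := by
    rw [Subgroup.closure_le]
    rintro g (⟨c, hc, rfl⟩ | ⟨c, hc, rfl⟩)
    · obtain ⟨n, rfl⟩ := hF0nat c hc
      have : Cfsg.Agent.Helper46.Dk.uU (n : K) = (uMat K 1) ^ n := by
        rw [← DICK_uMat_natCast]; rfl
      rw [SetLike.mem_coe, this]
      exact H.pow_mem hxH n
    · obtain ⟨n, rfl⟩ := hF0nat c hc
      have : Cfsg.Agent.Helper46.Dk.vV (θ * (n : K)) = (lMat K θ) ^ n := by
        rw [← DICK_lMat_mul_natCast]; rfl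
      rw [SetLike.mem_coe, this]
      exact H.pow_mem hyH n
  rw [eq_top_iff]
  intro g _
  apply hsub
  apply Cfsg.Agent.Helper46.Dk.mem_closure_of_entries F0 θ hθ0 h2' hexc g
  intro i j
  rw [hL]
  exact Subfield.mem_top _

end Cfsg.Agent.Helper1.SL3P
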