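import Mathlib
import Cfsg.Agent.Helper1.SL3P.Defs
import Cfsg.Agent.Helper9.Sp4P.P_SL2F
import Cfsg.Agent.Helper9.Sp4P.P_EXT1
import Cfsg.Agent.Helper9.Sp4P.P_SQ
import Cfsg.Agent.Helper9.Sp4P.P_CW

/-!
# S2287 piece (EXTG) -- see `tools/helper1_s2287/README.md` and board WANTED of helper1.
-/

set_option autoImplicit false
set_option linter.unusedSimpArgs false

namespace Cfsg.Agent.Helper1.SL3P

open Matrix Cfsg.Agent.Helper96.StemSLTwo Cfsg.Agent.Helper96.StPres Cfsg.Agent.Helper9.Sp4P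
  Cfsg.Agent.Helper96.StN

universe u v

variable {K : Type u} [Field K] {D : Type v} [Group D]

theorem EXTG_map_zero (x : K → D) (hx : ∀ t u, x (t + u) = x t * x u) : x 0 = 1 := by
  have := hx 0 0
  rw [add_zero] at this
  exact (mul_eq_left.1 this.symm)

theorem EXTG_map_neg (x : K → D) (hx : ∀ t u, x (t + u) = x t * x u) (t : K) :
    x (-t) = (x t)⁻¹ := by
  have := hx t (-t)
  rw [add_neg_cancel, EXTG_map_zero x hx] at this
  exact (inv_eq_of_mul_eq_one_right this.symm).symm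

/-- an additive subgroup containing all cubes is everything -/
theorem EXTG_top_of_cubes
    (hspan : AddSubgroup.closure {t : K | ∃ s : Kˣ, t = (s : K) ^ 3} = ⊤)
    (B : AddSubgroup K) (hB : ∀ s : Kˣ, (s : K) ^ 3 ∈ B) (v : K) : v ∈ B := by
  have hle : AddSubgroup.closure {t : K | ∃ s : Kˣ, t = (s : K) ^ 3} ≤ B := by
    rw [AddSubgroup.closure_le]
    rintro t ⟨s, rfl⟩
    exact hB s
  rw [hspan] at hle
  exact hle (AddSubgroup.mem_top v)

/-- the additive subgroup `{v | g` commutes with `w (β v)}` -/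
def EXTG_commSub (g : D) (w : K → D) (hw : ∀ t u, w (t + u) = w t * w u) (β : K) :
    AddSubgroup K where
  carrier := {v | Commute g (w (β * v))}
  zero_mem' := by
    show Commute g (w (β * 0))
    rw [mul_zero, EXTG_map_zero w hw]; exact Commute.one_right _
  add_mem' := by
    intro p q hp hq
    show Commute g (w (β * (p + q)))
    rw [mul_add, hw]; exact Commute.mul_right hp hq
  neg_mem' := by
    intro p hp
    show Commute g (w (β * -p))
    rw [mul_neg, EXTG_map_neg w hw]; exact Commute.inv_right hp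

/-- the additive subgroup `{v | [g, y (α v)] = w (β v)}`, `w` commuting with `y` -/
def EXTG_bilinSub (g : D) (y w : K → D) (hy : ∀ t u, y (t + u) = y t * y u)
    (hw : ∀ t u, w (t + u) = w t * w u) (hyw : ∀ t u, Commute (y t) (w u)) (α β : K) :
    AddSubgroup K where
  carrier := {v | g * y (α * v) * g⁻¹ * (y (α * v))⁻¹ = w (β * v)}
  zero_mem' := by
    show g * y (α * 0) * g⁻¹ * (y (α * 0))⁻¹ = w (β * 0)
    rw [mul_zero, mul_zero, EXTG_map_zero y hy, EXTG_map_zero w hw]; simp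
  add_mem' := by
    intro p q hp hq
    have hp' : g * y (α * p) * g⁻¹ * (y (α * p))⁻¹ = w (β * p) := hp
    have hq' : g * y (α * q) * g⁻¹ * (y (α * q))⁻¹ = w (β * q) := hq
    show g * y (α * (p + q)) * g⁻¹ * (y (α * (p + q)))⁻¹ = w (β * (p + q))
    rw [mul_add, mul_add, hy, hw]
    have hc : y (α * p) * w (β * q) = w (β * q) * y (α * p) := hyw _ _
    calc g * (y (α * p) * y (α * q)) * g⁻¹ * (y (α * p) * y (α * q))⁻¹
        = (g * y (α * p) * g⁻¹ * (y (α * p))⁻¹) *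
          (y (α * p) * (g * y (α * q) * g⁻¹ * (y (α * q))⁻¹) * (y (α * p))⁻¹) := by
          simp only [mul_assoc, _root_.mul_inv_rev, inv_mul_cancel_left]
      _ = w (β * p) * (y (α * p) * w (β * q) * (y (α * p))⁻¹) := by rw [hp', hq']
      _ = w (β * p) * w (β * q) := by rw [hc, mul_assoc, mul_inv_cancel, mul_one]
  neg_mem' := by
    intro p hp
    have hp' : g * y (α * p) * g⁻¹ * (y (α * p))⁻¹ = w (β * p) := hp
    show g * y (α * -p) * g⁻¹ * (y (α * -p))⁻¹ = w (β * -p)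
    rw [mul_neg, mul_neg, EXTG_map_neg y hy, EXTG_map_neg w hw, inv_inv]
    have hc : y (α * p) * w (β * p) = w (β * p) * y (α * p) := hyw _ _
    have hc' : (y (α * p))⁻¹ * (w (β * p))⁻¹ * y (α * p) = (w (β * p))⁻¹ := by
      have : (w (β * p))⁻¹ * y (α * p) = y (α * p) * (w (β * p))⁻¹ := by
        calc (w (β * p))⁻¹ * y (α * p)
            = (w (β * p))⁻¹ * (y (α * p) * w (β * p)) * (w (β * p))⁻¹ := by
              simp only [mul_assoc, mul_inv_cancel, mul_one]
          _ = (w (β * p))⁻¹ * (w (β * p) * y (α * p)) * (w (β * p))⁻¹ := by rw [hc]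
          _ = y (α * p) * (w (β * p))⁻¹ := by simp only [mul_assoc, inv_mul_cancel_left]
      rw [mul_assoc, this, inv_mul_cancel_left]
    calc g * (y (α * p))⁻¹ * g⁻¹ * y (α * p)
        = (y (α * p))⁻¹ * (g * y (α * p) * g⁻¹ * (y (α * p))⁻¹)⁻¹ * y (α * p) := by
          simp only [mul_assoc, _root_.mul_inv_rev, inv_inv, mul_inv_cancel_left, inv_mul_cancel_left]
      _ = (y (α * p))⁻¹ * (w (β * p))⁻¹ * y (α * p) := by rw [hp']
      _ = (w (β * p))⁻¹ := hc'

theorem full_of_fam {a : SL2 K →* D} {c : D}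
    (hadd : ∀ (i j : Fin 3) (t u : K), X3 a c i j (t + u) = X3 a c i j t * X3 a c i j u)
    (hspan : AddSubgroup.closure {t : K | ∃ s : Kˣ, t = (s : K) ^ 3} = ⊤)
    (hF : Fam012 a c) : Full012 a c := by
  have h01 := hadd 0 1
  have h12 := hadd 1 2
  have h02 := hadd 0 2
  -- c1
  have hc1 : ∀ t u : K, Commute (X3 a c 0 1 t) (X3 a c 0 2 u) := by
    intro t u
    by_cases ht : t = 0
    · rw [ht, EXTG_map_zero _ h01]; exact Commute.one_left _
    · have hmem := EXTG_top_of_cubes hspan (EXTG_commSub (X3 a c 0 1 t) (X3 a c 0 2) h02 t⁻¹) ?_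
        (t * u)
      · have h' : Commute (X3 a c 0 1 t) (X3 a c 0 2 (t⁻¹ * (t * u))) := hmem
        rwa [inv_mul_cancel_left₀ ht] at h'
      · intro s
        show Commute (X3 a c 0 1 t) (X3 a c 0 2 (t⁻¹ * (s : K) ^ 3))
        have h := hF.c1 s (s ^ 2 * (Units.mk0 t ht)⁻¹)
        have e1 : (s : K) ^ 2 * ((s ^ 2 * (Units.mk0 t ht)⁻¹ : Kˣ) : K)⁻¹ = t := by
          simp only [Units.val_mul, Units.val_pow_eq_pow_val, Units.val_inv_eq_inv_val,
            Units.val_mk0]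
          have hs : (s : K) ≠ 0 := s.ne_zero
          field_simp
        have e2 : (s : K) * ((s ^ 2 * (Units.mk0 t ht)⁻¹ : Kˣ) : K) = t⁻¹ * (s : K) ^ 3 := by
          simp only [Units.val_mul, Units.val_pow_eq_pow_val, Units.val_inv_eq_inv_val,
            Units.val_mk0]
          ring
        rwa [e1, e2] at h
  -- c2
  have hc2 : ∀ t u : K, Commute (X3 a c 1 2 t) (X3 a c 0 2 u) := by
    intro t u
    by_cases ht : t = 0
    · rw [ht, EXTG_map_zero _ h12]; exact Commute.one_left _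
    · have hmem := EXTG_top_of_cubes hspan (EXTG_commSub (X3 a c 1 2 t) (X3 a c 0 2) h02 t⁻¹) ?_
        (t * u)
      · have h' : Commute (X3 a c 1 2 t) (X3 a c 0 2 (t⁻¹ * (t * u))) := hmem
        rwa [inv_mul_cancel_left₀ ht] at h'
      · intro r
        show Commute (X3 a c 1 2 t) (X3 a c 0 2 (t⁻¹ * (r : K) ^ 3))
        have h := hF.c2 (r ^ 2 * (Units.mk0 t ht)⁻¹) r
        have e1 : ((r ^ 2 * (Units.mk0 t ht)⁻¹ : Kˣ) : K)⁻¹ * (r : K) ^ 2 = t := by
          simp only [Units.val_mul, Units.val_pow_eq_pow_val, Units.val_inv_eq_inv_val,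
            Units.val_mk0]
          have hr : (r : K) ≠ 0 := r.ne_zero
          field_simp
        have e2 : ((r ^ 2 * (Units.mk0 t ht)⁻¹ : Kˣ) : K) * (r : K) = t⁻¹ * (r : K) ^ 3 := by
          simp only [Units.val_mul, Units.val_pow_eq_pow_val, Units.val_inv_eq_inv_val,
            Units.val_mk0]
          ring
        rwa [e1, e2] at h
  refine ⟨?_, hc1, hc2⟩
  -- m
  intro t u
  by_cases ht : t = 0
  · rw [ht, EXTG_map_zero _ h01, zero_mul, EXTG_map_zero _ h02]; simp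
  · have hmem := EXTG_top_of_cubes hspan
      (EXTG_bilinSub (X3 a c 0 1 t) (X3 a c 1 2) (X3 a c 0 2) h12 h02 hc2 (t⁻¹ ^ 2) t⁻¹) ?_
      (t ^ 2 * u)
    · have h' : X3 a c 0 1 t * X3 a c 1 2 (t⁻¹ ^ 2 * (t ^ 2 * u)) * (X3 a c 0 1 t)⁻¹ *
          (X3 a c 1 2 (t⁻¹ ^ 2 * (t ^ 2 * u)))⁻¹ = X3 a c 0 2 (t⁻¹ * (t ^ 2 * u)) := hmem
      have e1 : t⁻¹ ^ 2 * (t ^ 2 * u) = u := by field_simp
      have e2 : t⁻¹ * (t ^ 2 * u) = t * u := by field_simp
      rwa [e1, e2] at h'
    · intro s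
      show X3 a c 0 1 t * X3 a c 1 2 (t⁻¹ ^ 2 * (s : K) ^ 3) * (X3 a c 0 1 t)⁻¹ *
          (X3 a c 1 2 (t⁻¹ ^ 2 * (s : K) ^ 3))⁻¹ = X3 a c 0 2 (t⁻¹ * (s : K) ^ 3)
      have h := hF.m s (s ^ 2 * (Units.mk0 t ht)⁻¹)
      have hs : (s : K) ≠ 0 := s.ne_zero
      have e1 : (s : K) ^ 2 * ((s ^ 2 * (Units.mk0 t ht)⁻¹ : Kˣ) : K)⁻¹ = t := by
        simp only [Units.val_mul, Units.val_pow_eq_pow_val, Units.val_inv_eq_inv_val,
          Units.val_mk0]
        field_simp
      have e2 : (s : K)⁻¹ * ((s ^ 2 * (Units.mk0 t ht)⁻¹ : Kˣ) : K) ^ 2 =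
          t⁻¹ ^ 2 * (s : K) ^ 3 := by
        simp only [Units.val_mul, Units.val_pow_eq_pow_val, Units.val_inv_eq_inv_val,
          Units.val_mk0]
        field_simp
      have e3 : (s : K) * ((s ^ 2 * (Units.mk0 t ht)⁻¹ : Kˣ) : K) = t⁻¹ * (s : K) ^ 3 := by
        simp only [Units.val_mul, Units.val_pow_eq_pow_val, Units.val_inv_eq_inv_val,
          Units.val_mk0]
        ring
      rwa [e1, e2, e3] at h

end Cfsg.Agent.Helper1.SL3P
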