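import Mathlib
import Cfsg.Agent.Helper1.SL3P.Defs
import Cfsg.Agent.Helper9.Sp4P.P_SL2F
import Cfsg.Agent.Helper9.Sp4P.P_EXT1
import Cfsg.Agent.Helper9.Sp4P.P_SQ
import Cfsg.Agent.Helper9.Sp4P.P_CW
import Cfsg.Agent.Helper1.SL3P.P_EXTG
import Cfsg.Agent.Helper64.SL3Ext

/-!
# S2287 piece (EXTQ) -- see `tools/helper1_s2287/README.md` and board WANTED of helper1.
-/

set_option autoImplicit false
set_option linter.unusedSimpArgs false

namespace Cfsg.Agent.Helper1.SL3P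

open Matrix Cfsg.Agent.Helper96.StemSLTwo Cfsg.Agent.Helper96.StPres Cfsg.Agent.Helper9.Sp4P
  Cfsg.Agent.Helper96.StN

universe u v

variable {K : Type u} [Field K] {D : Type v} [Group D]

open Cfsg.Agent.Helper64.SL3Ext Cfsg.Agent.Helper64.SL3Cube

theorem EXTQ_ch_values : ch 0 1 0 = -2 ∧ ch 0 0 1 = 2 ∧ ch 1 0 1 = -1 ∧ ch 1 0 2 = 1 ∧
    ch 0 1 2 = -1 ∧ ch 0 0 2 = 1 ∧ ch 2 0 1 = -1 ∧ ch 2 1 2 = -1 ∧ ch 2 0 2 = -2 := by
  decide

/-- in a field with four elements, a generator `z` of the units has `z ^ 2 ≠ 1` -/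
theorem EXTQ_z_sq_ne_one [Fintype K] {z : Kˣ} (h4 : Fintype.card K = 4)
    (hz : ∀ s : Kˣ, ∃ n : ℕ, z ^ n = s) : z ^ 2 ≠ 1 := by
  classical
  intro h2
  have h3 : z ^ 3 = 1 := by
    have hc : Fintype.card Kˣ = 3 := by rw [Fintype.card_units, h4]
    rw [← hc]; exact pow_card_eq_one
  have hz1 : z = 1 := by
    calc z = z ^ 3 * (z ^ 2)⁻¹ := by group
      _ = 1 := by rw [h3, h2]; simp
  have hall : ∀ s : Kˣ, s = 1 := by
    intro s
    obtain ⟨n, rfl⟩ := hz s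
    rw [hz1, one_pow]
  have hc : Fintype.card Kˣ = 3 := by rw [Fintype.card_units, h4]
  have : Fintype.card Kˣ ≤ 1 := Fintype.card_le_one_iff.2 (fun x y => by rw [hall x, hall y])
  omega

theorem full_of_fam_four [Fintype K] {a : SL2 K →* D} {c : D} {z : Kˣ}
    (h4 : Fintype.card K = 4) (hz : ∀ s : Kˣ, ∃ n : ℕ, z ^ n = s)
    (hadd : ∀ (i j : Fin 3) (t u : K), X3 a c i j (t + u) = X3 a c i j t * X3 a c i j u)
    (hT : TorusAct3 a c) (hF : Fam012 a c) (hE : CrossE a c z) : Full012 a c := by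
  obtain ⟨v010, v001, v101, v102, v012, v002, v201, v212, v202⟩ := EXTQ_ch_values
  have h01 := hadd 0 1
  have h12 := hadd 1 2
  have h02 := hadd 0 2
  have hzsq : z ^ 2 ≠ 1 := EXTQ_z_sq_ne_one h4 hz
  have hz2K1 : ((z : K)) ^ 2 ≠ 1 := by
    intro h
    apply hzsq
    apply Units.ext
    rw [Units.val_pow_eq_pow_val, h, Units.val_one]
  have hz2K0 : ((z : K)) ^ 2 ≠ 0 := pow_ne_zero 2 z.ne_zero
  have hzi2K1 : ((z : K)⁻¹) ^ 2 ≠ 1 := by
    intro h
    apply hz2K1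
    rw [inv_pow] at h
    exact inv_eq_one.1 h
  have hzi2K0 : ((z : K)⁻¹) ^ 2 ≠ 0 := pow_ne_zero 2 (inv_ne_zero z.ne_zero)
  -- torus actions in explicit form
  have a1_01 : ∀ (s : Kˣ) (t : K),
      hh a c 1 s * X3 a c 0 1 t * (hh a c 1 s)⁻¹ = X3 a c 0 1 ((s : K)⁻¹ * t) := by
    intro s t
    have := hT.act 1 0 1 s t
    rw [v101] at this
    simpa using this
  have a1_02 : ∀ (s : Kˣ) (t : K),
      hh a c 1 s * X3 a c 0 2 t * (hh a c 1 s)⁻¹ = X3 a c 0 2 ((s : K) * t) := by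
    intro s t
    have := hT.act 1 0 2 s t
    rw [v102] at this
    simpa using this
  have a0_12 : ∀ (s : Kˣ) (t : K),
      hh a c 0 s * X3 a c 1 2 t * (hh a c 0 s)⁻¹ = X3 a c 1 2 ((s : K)⁻¹ * t) := by
    intro s t
    have := hT.act 0 1 2 s t
    rw [v012] at this
    simpa using this
  have a0_02 : ∀ (s : Kˣ) (t : K),
      hh a c 0 s * X3 a c 0 2 t * (hh a c 0 s)⁻¹ = X3 a c 0 2 ((s : K) * t) := by
    intro s t
    have := hT.act 0 0 2 s t
    rw [v002] at this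
    simpa using this
  have a2_01 : ∀ (s : Kˣ) (t : K),
      hh a c 2 s * X3 a c 0 1 t * (hh a c 2 s)⁻¹ = X3 a c 0 1 ((s : K)⁻¹ * t) := by
    intro s t
    have := hT.act 2 0 1 s t
    rw [v201] at this
    simpa using this
  have a2_12 : ∀ (s : Kˣ) (t : K),
      hh a c 2 s * X3 a c 1 2 t * (hh a c 2 s)⁻¹ = X3 a c 1 2 ((s : K)⁻¹ * t) := by
    intro s t
    have := hT.act 2 1 2 s t
    rw [v212] at this
    simpa using this
  have a2_02 : ∀ (s : Kˣ) (t : K),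
      hh a c 2 s * X3 a c 0 2 t * (hh a c 2 s)⁻¹ = X3 a c 0 2 (((s : K)⁻¹) ^ 2 * t) := by
    intro s t
    have := hT.act 2 0 2 s t
    rw [v202] at this
    have e : (((s ^ (-2 : ℤ) : Kˣ)) : K) = ((s : K)⁻¹) ^ 2 := by
      simp [_root_.zpow_neg, inv_pow]
    rw [e] at this
    exact this
  have a0_10 : ∀ (t : K),
      he a z * ye a t * (he a z)⁻¹ = ye a (((z : K)⁻¹) ^ 2 * t) := by
    intro t
    have := hT.act 0 1 0 z t
    rw [v010] at this
    have e : (((z ^ (-2 : ℤ) : Kˣ)) : K) = ((z : K)⁻¹) ^ 2 := by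
      simp [_root_.zpow_neg, inv_pow]
    rw [e] at this
    exact this
  have a0_01 : ∀ (t : K),
      he a z * xe a t * (he a z)⁻¹ = xe a ((z : K) ^ 2 * t) := by
    intro t
    have := hT.act 0 0 1 z t
    rw [v001] at this
    have e : (((z ^ (2 : ℤ) : Kˣ)) : K) = (z : K) ^ 2 := by
      simp
    rw [e] at this
    exact this
  -- the base relations at (1,1)
  have b_c1 : Commute (X3 a c 0 1 1) (X3 a c 0 2 1) := by
    have := hF.c1 1 1
    simpa using this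
  have b_c2 : Commute (X3 a c 1 2 1) (X3 a c 0 2 1) := by
    have := hF.c2 1 1
    simpa using this
  have b_m : X3 a c 0 1 1 * X3 a c 1 2 1 * (X3 a c 0 1 1)⁻¹ * (X3 a c 1 2 1)⁻¹ =
      X3 a c 0 2 1 := by
    have := hF.m 1 1
    simpa using this
  -- the extra relations
  have x_c1 : Commute (X3 a c 0 1 1) (X3 a c 0 2 (((z : K)⁻¹) ^ 2)) := by
    have := hE.e1
    rw [a0_10, mul_one] at this
    exact this
  have x_c2 : Commute (X3 a c 0 2 1) (X3 a c 1 2 ((z : K) ^ 2)) := by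
    have := hE.e2
    rw [a0_01, mul_one] at this
    exact this
  have x_m : X3 a c 0 1 1 * X3 a c 1 2 ((z : K) ^ 2) * (X3 a c 0 1 1)⁻¹ *
      (X3 a c 1 2 ((z : K) ^ 2))⁻¹ = X3 a c 0 2 ((z : K) ^ 2) := by
    have := hE.e3
    rw [a0_01, mul_one] at this
    have hy : (he a z)⁻¹ * ye a 1 * he a z = ye a ((z : K) ^ 2) := by
      have h := a0_10 ((z : K) ^ 2)
      have e : ((z : K)⁻¹) ^ 2 * (z : K) ^ 2 = 1 := by
        rw [← mul_pow, inv_mul_cancel₀ z.ne_zero, one_pow]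
      rw [e] at h
      rw [← h]
      simp only [mul_assoc, inv_mul_cancel_left, inv_mul_cancel, mul_one]
    rw [hy] at this
    exact this
  -- c1
  have hc1 : ∀ t u : K, Commute (X3 a c 0 1 t) (X3 a c 0 2 u) := by
    intro t u
    by_cases ht : t = 0
    · rw [ht, EXTG_map_zero _ h01]; exact Commute.one_left _
    · have hB : EXTG_commSub (X3 a c 0 1 t) (X3 a c 0 2) h02 t⁻¹ = ⊤ := by
        refine addSubgroup_eq_top_of_card_four h4 _ ?_ (((z : K)⁻¹) ^ 2) ?_ hzi2K0 hzi2K1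
        · show Commute (X3 a c 0 1 t) (X3 a c 0 2 (t⁻¹ * 1))
          have := commute_conj (hh a c 1 (Units.mk0 t ht)⁻¹) _ _ b_c1
          rw [a1_01, a1_02] at this
          simpa using this
        · show Commute (X3 a c 0 1 t) (X3 a c 0 2 (t⁻¹ * ((z : K)⁻¹) ^ 2))
          have := commute_conj (hh a c 1 (Units.mk0 t ht)⁻¹) _ _ x_c1
          rw [a1_01, a1_02] at this
          simpa using this
      have hmem : t * u ∈ EXTG_commSub (X3 a c 0 1 t) (X3 a c 0 2) h02 t⁻¹ := by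
        rw [hB]; trivial
      have h' : Commute (X3 a c 0 1 t) (X3 a c 0 2 (t⁻¹ * (t * u))) := hmem
      rwa [inv_mul_cancel_left₀ ht] at h'
  -- c2
  have hc2 : ∀ t u : K, Commute (X3 a c 1 2 t) (X3 a c 0 2 u) := by
    intro t u
    by_cases hu : u = 0
    · rw [hu, EXTG_map_zero _ h02]; exact Commute.one_right _
    · have hB : EXTG_commSub (X3 a c 0 2 u) (X3 a c 1 2) h12 u⁻¹ = ⊤ := by
        refine addSubgroup_eq_top_of_card_four h4 _ ?_ ((z : K) ^ 2) ?_ hz2K0 hz2K1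
        · show Commute (X3 a c 0 2 u) (X3 a c 1 2 (u⁻¹ * 1))
          have := commute_conj (hh a c 0 (Units.mk0 u hu)) _ _ b_c2.symm
          rw [a0_12, a0_02] at this
          simpa using this
        · show Commute (X3 a c 0 2 u) (X3 a c 1 2 (u⁻¹ * (z : K) ^ 2))
          have := commute_conj (hh a c 0 (Units.mk0 u hu)) _ _ x_c2
          rw [a0_12, a0_02] at this
          simpa using this
      have hmem : u * t ∈ EXTG_commSub (X3 a c 0 2 u) (X3 a c 1 2) h12 u⁻¹ := by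
        rw [hB]; trivial
      have h' : Commute (X3 a c 0 2 u) (X3 a c 1 2 (u⁻¹ * (u * t))) := hmem
      rw [inv_mul_cancel_left₀ hu] at h'
      exact h'.symm
  refine ⟨?_, hc1, hc2⟩
  -- m
  intro t u
  by_cases ht : t = 0
  · rw [ht, EXTG_map_zero _ h01, zero_mul, EXTG_map_zero _ h02]; simp
  · have hB : EXTG_bilinSub (X3 a c 0 1 t) (X3 a c 1 2) (X3 a c 0 2) h12 h02 hc2 t (t ^ 2) = ⊤ := by
      refine addSubgroup_eq_top_of_card_four h4 _ ?_ ((z : K) ^ 2) ?_ hz2K0 hz2K1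
      · show X3 a c 0 1 t * X3 a c 1 2 (t * 1) * (X3 a c 0 1 t)⁻¹ * (X3 a c 1 2 (t * 1))⁻¹ =
          X3 a c 0 2 (t ^ 2 * 1)
        have := conj_comm_eq (hh a c 2 (Units.mk0 t ht)⁻¹) _ _ _ b_m
        rw [a2_01, a2_12, a2_02] at this
        simpa using this
      · show X3 a c 0 1 t * X3 a c 1 2 (t * (z : K) ^ 2) * (X3 a c 0 1 t)⁻¹ *
          (X3 a c 1 2 (t * (z : K) ^ 2))⁻¹ = X3 a c 0 2 (t ^ 2 * (z : K) ^ 2)
        have := conj_comm_eq (hh a c 2 (Units.mk0 t ht)⁻¹) _ _ _ x_m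
        rw [a2_01, a2_12, a2_02] at this
        simpa using this
    have hmem : t⁻¹ * u ∈
        EXTG_bilinSub (X3 a c 0 1 t) (X3 a c 1 2) (X3 a c 0 2) h12 h02 hc2 t (t ^ 2) := by
      rw [hB]; trivial
    have h' : X3 a c 0 1 t * X3 a c 1 2 (t * (t⁻¹ * u)) * (X3 a c 0 1 t)⁻¹ *
        (X3 a c 1 2 (t * (t⁻¹ * u)))⁻¹ = X3 a c 0 2 (t ^ 2 * (t⁻¹ * u)) := hmem
    have e1 : t * (t⁻¹ * u) = u := by field_simp
    have e2 : t ^ 2 * (t⁻¹ * u) = t * u := by field_simp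
    rwa [e1, e2] at h'

end Cfsg.Agent.Helper1.SL3P
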