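import Mathlib
import Cfsg.Agent.Helper1.SL3P.Defs
import Cfsg.Agent.Helper9.Sp4P.P_SL2F
import Cfsg.Agent.Helper9.Sp4P.P_EXT1
import Cfsg.Agent.Helper9.Sp4P.P_SQ
import Cfsg.Agent.Helper9.Sp4P.P_CW

/-!
# S2287 piece (FAM) -- see `tools/helper1_s2287/README.md` and board WANTED of helper1.
-/

set_option autoImplicit false

namespace Cfsg.Agent.Helper1.SL3P

open Matrix Cfsg.Agent.Helper96.StemSLTwo Cfsg.Agent.Helper96.StPres Cfsg.Agent.Helper9.Sp4P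
  Cfsg.Agent.Helper96.StN

universe u v

variable {K : Type u} [Field K] {D : Type v} [Group D]

theorem FAM_X3_zero {a : SL2 K →* D} {c : D}
    (hadd : ∀ (i j : Fin 3) (t u : K), X3 a c i j (t + u) = X3 a c i j t * X3 a c i j u)
    (i j : Fin 3) : X3 a c i j 0 = 1 := by
  have h := hadd i j 0 0
  rw [add_zero] at h
  have h2 : X3 a c i j 0 * X3 a c i j 0 = X3 a c i j 0 * 1 := by rw [mul_one]; exact h.symm
  exact mul_left_cancel h2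

theorem FAM_X3_neg {a : SL2 K →* D} {c : D}
    (hadd : ∀ (i j : Fin 3) (t u : K), X3 a c i j (t + u) = X3 a c i j t * X3 a c i j u)
    (i j : Fin 3) (t : K) : X3 a c i j (-t) = (X3 a c i j t)⁻¹ := by
  have h : X3 a c i j t * X3 a c i j (-t) = 1 := by
    rw [← hadd, add_neg_cancel, FAM_X3_zero hadd]
  exact eq_inv_of_mul_eq_one_right h

theorem FAM_conj {a : SL2 K →* D} {c : D} (hT : TorusAct3 a c) (s r : Kˣ) (j k : Fin 3) (t : K) :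
    (hh a c 0 s * hh a c 1 r) * X3 a c j k t * (hh a c 0 s * hh a c 1 r)⁻¹ =
      X3 a c j k (((s ^ ch 0 j k : Kˣ) : K) * (((r ^ ch 1 j k : Kˣ) : K) * t)) := by
  rw [← hT.act 0 j k s, ← hT.act 1 j k r]
  group

theorem FAM_m {a : SL2 K →* D} {c : D}
    (hT : TorusAct3 a c)
    (hmul : xe a 1 * (c * xe a 1 * c⁻¹) * (xe a 1)⁻¹ * (c * xe a 1 * c⁻¹)⁻¹ =
      c * c * ye a 1 * (c * c)⁻¹) (s r : Kˣ) :
    X3 a c 0 1 ((s : K) ^ 2 * (r : K)⁻¹) * X3 a c 1 2 ((s : K)⁻¹ * (r : K) ^ 2) *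
      (X3 a c 0 1 ((s : K) ^ 2 * (r : K)⁻¹))⁻¹ * (X3 a c 1 2 ((s : K)⁻¹ * (r : K) ^ 2))⁻¹ =
    X3 a c 0 2 ((s : K) * r) := by
  have hmul' : X3 a c 0 1 1 * X3 a c 1 2 1 * (X3 a c 0 1 1)⁻¹ * (X3 a c 1 2 1)⁻¹ =
      X3 a c 0 2 1 := hmul
  set g := hh a c 0 s * hh a c 1 r with hg
  have h1 := congrArg (fun x => g * x * g⁻¹) hmul'
  have e : g * (X3 a c 0 1 1 * X3 a c 1 2 1 * (X3 a c 0 1 1)⁻¹ * (X3 a c 1 2 1)⁻¹) * g⁻¹ =
      (g * X3 a c 0 1 1 * g⁻¹) * (g * X3 a c 1 2 1 * g⁻¹) * (g * X3 a c 0 1 1 * g⁻¹)⁻¹ *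
        (g * X3 a c 1 2 1 * g⁻¹)⁻¹ := by group
  rw [e, hg, FAM_conj hT, FAM_conj hT, FAM_conj hT] at h1
  have c001 : ch 0 0 1 = 2 := by decide
  have c101 : ch 1 0 1 = -1 := by decide
  have c012 : ch 0 1 2 = -1 := by decide
  have c112 : ch 1 1 2 = 2 := by decide
  have c002 : ch 0 0 2 = 1 := by decide
  have c102 : ch 1 0 2 = 1 := by decide
  rw [c001, c101, c012, c112, c002, c102] at h1
  have p1 : (((s ^ (2 : ℤ) : Kˣ) : K) * (((r ^ (-1 : ℤ) : Kˣ) : K) * 1)) =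
      (s : K) ^ 2 * (r : K)⁻¹ := by
    simp [zpow_ofNat]
  have p2 : (((s ^ (-1 : ℤ) : Kˣ) : K) * (((r ^ (2 : ℤ) : Kˣ) : K) * 1)) =
      (s : K)⁻¹ * (r : K) ^ 2 := by
    simp [zpow_ofNat]
  have p3 : (((s ^ (1 : ℤ) : Kˣ) : K) * (((r ^ (1 : ℤ) : Kˣ) : K) * 1)) =
      (s : K) * r := by
    simp
  rw [p1, p2, p3] at h1
  exact h1

theorem fam012 {a : SL2 K →* D} {c : D}
    (hadd : ∀ (i j : Fin 3) (t u : K), X3 a c i j (t + u) = X3 a c i j t * X3 a c i j u)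
    (hT : TorusAct3 a c)
    (hmul : xe a 1 * (c * xe a 1 * c⁻¹) * (xe a 1)⁻¹ * (c * xe a 1 * c⁻¹)⁻¹ =
      c * c * ye a 1 * (c * c)⁻¹) : Fam012 a c := by
  refine ⟨FAM_m hT hmul, ?_, ?_⟩
  · intro s r
    have h1 := FAM_m hT hmul s r
    have h2 := FAM_m hT hmul s (-r)
    have e1 : ((s : K) ^ 2 * (((-r : Kˣ)) : K)⁻¹) = -((s : K) ^ 2 * (r : K)⁻¹) := by
      rw [Units.val_neg, inv_neg, mul_neg]
    have e2 : ((s : K)⁻¹ * (((-r : Kˣ)) : K) ^ 2) = (s : K)⁻¹ * (r : K) ^ 2 := by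
      rw [Units.val_neg, neg_sq]
    have e3 : ((s : K) * ((-r : Kˣ) : K)) = -((s : K) * r) := by
      rw [Units.val_neg, mul_neg]
    rw [e1, e2, e3, FAM_X3_neg hadd, FAM_X3_neg hadd] at h2
    set U := X3 a c 0 1 ((s : K) ^ 2 * (r : K)⁻¹) with hU
    set V := X3 a c 1 2 ((s : K)⁻¹ * (r : K) ^ 2) with hV
    set W := X3 a c 0 2 ((s : K) * r) with hW
    -- h1 : U V U⁻¹ V⁻¹ = W ; h2 : U⁻¹ V U V⁻¹ = W⁻¹
    rw [inv_inv] at h2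
    show U * W = W * U
    have hWi : W⁻¹ = V * U * V⁻¹ * U⁻¹ := by rw [← h1]; group
    have h3 : U⁻¹ * W⁻¹ * U = W⁻¹ := by
      calc U⁻¹ * W⁻¹ * U = U⁻¹ * (V * U * V⁻¹ * U⁻¹) * U := by rw [← hWi]
        _ = U⁻¹ * V * U * V⁻¹ := by group
        _ = W⁻¹ := h2
    have h4 : W⁻¹ * U = U * W⁻¹ := by
      calc W⁻¹ * U = U * (U⁻¹ * W⁻¹ * U) := by group
        _ = U * W⁻¹ := by rw [h3]
    calc U * W = W * (W⁻¹ * U) * W := by group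
      _ = W * (U * W⁻¹) * W := by rw [h4]
      _ = W * U := by group
  · intro s r
    have h1 := FAM_m hT hmul s r
    have h2 := FAM_m hT hmul (-s) r
    have e1 : ((((-s : Kˣ)) : K) ^ 2 * (r : K)⁻¹) = ((s : K) ^ 2 * (r : K)⁻¹) := by
      rw [Units.val_neg, neg_sq]
    have e2 : ((((-s : Kˣ)) : K)⁻¹ * (r : K) ^ 2) = -((s : K)⁻¹ * (r : K) ^ 2) := by
      rw [Units.val_neg, inv_neg, neg_mul]
    have e3 : ((((-s : Kˣ)) : K) * (r : K)) = -((s : K) * r) := by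
      rw [Units.val_neg, neg_mul]
    rw [e1, e2, e3, FAM_X3_neg hadd, FAM_X3_neg hadd] at h2
    set U := X3 a c 0 1 ((s : K) ^ 2 * (r : K)⁻¹) with hU
    set V := X3 a c 1 2 ((s : K)⁻¹ * (r : K) ^ 2) with hV
    set W := X3 a c 0 2 ((s : K) * r) with hW
    -- h1 : U V U⁻¹ V⁻¹ = W ; h2 : U V⁻¹ U⁻¹ V = W⁻¹
    rw [inv_inv] at h2
    show V * W = W * V
    have hWi : W⁻¹ = V * U * V⁻¹ * U⁻¹ := by rw [← h1]; group
    have h3 : V⁻¹ * W⁻¹ * V = W⁻¹ := by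
      calc V⁻¹ * W⁻¹ * V = V⁻¹ * (V * U * V⁻¹ * U⁻¹) * V := by rw [← hWi]
        _ = U * V⁻¹ * U⁻¹ * V := by group
        _ = W⁻¹ := h2
    have h4 : W⁻¹ * V = V * W⁻¹ := by
      calc W⁻¹ * V = V * (V⁻¹ * W⁻¹ * V) := by group
        _ = V * W⁻¹ := by rw [h3]
    calc V * W = W * (W⁻¹ * V) * W := by group
      _ = W * (V * W⁻¹) * W := by rw [h4]
      _ = W * V := by group

end Cfsg.Agent.Helper1.SL3P
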