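import Mathlib
import Cfsg.Agent.Helper1.SL3P.Defs
import Cfsg.Agent.Helper9.Sp4P.P_SL2F
import Cfsg.Agent.Helper9.Sp4P.P_CW
import Cfsg.Agent.Helper96.StPresD

/-!
# S2287 piece (GEN) -- see `tools/helper1_s2287/README.md` and board WANTED of helper1.
-/

set_option autoImplicit false

namespace Cfsg.Agent.Helper1.SL3P

open Matrix Cfsg.Agent.Helper96.StemSLTwo Cfsg.Agent.Helper96.StPres Cfsg.Agent.Helper9.Sp4P

universe u v

variable {K : Type u} [Field K] {D : Type v} [Group D]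

theorem gen_X3 {a : SL2 K →* D} {c : D} (hc3 : c * c * c = 1)
    (hcw : we a * c⁻¹ * we a * c⁻¹ = 1) :
    a.range ≤ Subgroup.closure {g | ∃ i j, i ≠ j ∧ ∃ t, g = X3 a c i j t} ∧
    c ∈ Subgroup.closure {g | ∃ i j, i ≠ j ∧ ∃ t, g = X3 a c i j t} := by
  have F := sl2Facts a
  have h01 : ∀ t : K, a (uMat K t) = X3 a c 0 1 t := fun t => rfl
  have h10 : ∀ t : K, a (lMat K t) = X3 a c 1 0 t := fun t => rfl
  have h12 : ∀ t : K, c * xe a t * c⁻¹ = X3 a c 1 2 t := fun t => rfl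
  have h21 : ∀ t : K, c * ye a t * c⁻¹ = X3 a c 2 1 t := fun t => rfl
  have hr : a.range ≤ Subgroup.closure {g | ∃ i j, i ≠ j ∧ ∃ t, g = X3 a c i j t} := by
    rw [MonoidHom.range_eq_map, ← closure_uMat_lMat, MonoidHom.map_closure, Subgroup.closure_le]
    rintro _ ⟨_, ⟨⟨b, t⟩, rfl⟩, rfl⟩
    apply Subgroup.subset_closure
    cases b
    · exact ⟨1, 0, by decide, t, by simpa using h10 t⟩
    · exact ⟨0, 1, by decide, t, by simpa using h01 t⟩
  refine ⟨hr, ?_⟩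
  set S := Subgroup.closure {g | ∃ i j, i ≠ j ∧ ∃ t, g = X3 a c i j t} with hS
  have hw : we a ∈ S := hr ⟨WU (1 : K), rfl⟩
  have hm12 : ∀ t : K, c * xe a t * c⁻¹ ∈ S := fun t =>
    Subgroup.subset_closure ⟨1, 2, by decide, t, h12 t⟩
  have hm21 : ∀ t : K, c * ye a t * c⁻¹ ∈ S := fun t =>
    Subgroup.subset_closure ⟨2, 1, by decide, t, h21 t⟩
  have hw1 : c * we a * c⁻¹ ∈ S := by
    have e : c * we a * c⁻¹ =
        (c * xe a 1 * c⁻¹) * (c * ye a (-1) * c⁻¹) * (c * xe a 1 * c⁻¹) := by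
      rw [F.w_eq]; group
    rw [e]
    exact S.mul_mem (S.mul_mem (hm12 1) (hm21 (-1))) (hm12 1)
  have hci : c⁻¹ = c * c := by
    apply inv_eq_of_mul_eq_one_right
    rw [← mul_assoc]; exact hc3
  have h1 : we a * c⁻¹ * we a = c := by
    calc we a * c⁻¹ * we a = (we a * c⁻¹ * we a * c⁻¹) * c := by group
      _ = c := by rw [hcw, one_mul]
  have h2 : c * we a * c⁻¹ * we a = c⁻¹ := by
    calc c * we a * c⁻¹ * we a = c * (we a * c⁻¹ * we a) := by group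
      _ = c⁻¹ := by rw [h1, hci]
  have h3 : c = (c * we a * c⁻¹ * we a)⁻¹ := by rw [h2, inv_inv]
  rw [h3]
  exact S.inv_mem (S.mul_mem hw1 hw)

end Cfsg.Agent.Helper1.SL3P
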