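import Mathlib
import Cfsg.Agent.Helper1.SL3P.Defs
import Cfsg.Agent.Helper9.Sp4P.P_SL2F
import Cfsg.Agent.Helper9.Sp4P.P_EXT1
import Cfsg.Agent.Helper9.Sp4P.P_SQ
import Cfsg.Agent.Helper9.Sp4P.P_CW

/-!
# S2287 piece (MODE) -- see `tools/helper1_s2287/README.md` and board WANTED of helper1.
-/

set_option autoImplicit false

namespace Cfsg.Agent.Helper1.SL3P

open Matrix Cfsg.Agent.Helper96.StemSLTwo Cfsg.Agent.Helper96.StPres Cfsg.Agent.Helper9.Sp4P
  Cfsg.Agent.Helper96.StN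

universe u v

variable {K : Type u} [Field K] {D : Type v} [Group D]

variable (F : Type u) [Field F]

/-- the matrix of the image of `x(t)` -/
theorem MODE_coe_xe (t : F) :
    ((xe (eA F) t : SL3 F) : Matrix (Fin 3) (Fin 3) F) = !![1, t, 0; 0, 1, 0; 0, 0, 1] := by
  unfold xe
  rw [coe_eA, uMat_coe]
  simp

/-- the matrix of the image of `y(t)` -/
theorem MODE_coe_ye (t : F) :
    ((ye (eA F) t : SL3 F) : Matrix (Fin 3) (Fin 3) F) = !![1, 0, 0; t, 1, 0; 0, 0, 1] := by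
  unfold ye
  rw [coe_eA, lMat_coe]
  simp

/-- the matrix of the image of `h(z)` -/
theorem MODE_coe_he (z : Fˣ) :
    ((he (eA F) z : SL3 F) : Matrix (Fin 3) (Fin 3) F) =
      !![(z : F), 0, 0; 0, (z : F)⁻¹, 0; 0, 0, 1] := by
  unfold he
  rw [coe_eA, dMat_coe]
  simp

theorem MODE_c3 : cM F * cM F * cM F = 1 := by
  apply Subtype.ext
  rw [Matrix.SpecialLinearGroup.coe_mul, Matrix.SpecialLinearGroup.coe_mul, coe_cM,
    Matrix.SpecialLinearGroup.coe_one]
  ext i j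
  fin_cases i <;> fin_cases j <;> simp [Matrix.mul_apply, Fin.sum_univ_three]

theorem MODE_c_inv : (cM F)⁻¹ = cM F * cM F := by
  rw [inv_eq_iff_mul_eq_one, ← mul_assoc]
  exact MODE_c3 F

theorem MODE_cc_inv : (cM F * cM F)⁻¹ = cM F := by
  rw [inv_eq_iff_mul_eq_one]
  exact MODE_c3 F

theorem MODE_he_inv (z : Fˣ) : (he (eA F) z)⁻¹ = he (eA F) z⁻¹ := by
  rw [inv_eq_iff_mul_eq_one]
  apply Subtype.ext
  rw [Matrix.SpecialLinearGroup.coe_mul, MODE_coe_he, MODE_coe_he, Matrix.SpecialLinearGroup.coe_one]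
  have hz : (z : F) ≠ 0 := z.ne_zero
  ext i j
  fin_cases i <;> fin_cases j <;> simp [Matrix.mul_apply, Fin.sum_univ_three, hz]

theorem MODE_xe_inv (t : F) : (xe (eA F) t)⁻¹ = xe (eA F) (-t) := by
  rw [inv_eq_iff_mul_eq_one]
  apply Subtype.ext
  rw [Matrix.SpecialLinearGroup.coe_mul, MODE_coe_xe, MODE_coe_xe, Matrix.SpecialLinearGroup.coe_one]
  ext i j
  fin_cases i <;> fin_cases j <;> simp [Matrix.mul_apply, Fin.sum_univ_three]

theorem crossE_model (z : Fˣ) : CrossE (eA F) (cM F) z := by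
  have hz : (z : F) ≠ 0 := z.ne_zero
  constructor
  · unfold Commute SemiconjBy
    rw [(MODE_cc_inv F), MODE_he_inv]
    apply Subtype.ext
    simp only [Matrix.SpecialLinearGroup.coe_mul, MODE_coe_xe, MODE_coe_ye, MODE_coe_he, coe_cM]
    ext i j
    fin_cases i <;> fin_cases j <;> simp [Matrix.mul_apply, Fin.sum_univ_three, hz]
  · unfold Commute SemiconjBy
    rw [(MODE_cc_inv F), MODE_he_inv, MODE_c_inv]
    apply Subtype.ext
    simp only [Matrix.SpecialLinearGroup.coe_mul, MODE_coe_xe, MODE_coe_ye, MODE_coe_he, coe_cM]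
    ext i j
    fin_cases i <;> fin_cases j <;> simp [Matrix.mul_apply, Fin.sum_univ_three, hz]
  · have hinv : (cM F * (he (eA F) z * xe (eA F) 1 * (he (eA F) z)⁻¹) * (cM F)⁻¹)⁻¹ =
        cM F * (he (eA F) z * xe (eA F) (-1) * (he (eA F) z)⁻¹) * (cM F)⁻¹ := by
      rw [← MODE_xe_inv]
      group
    rw [hinv, MODE_cc_inv, MODE_he_inv, MODE_c_inv, MODE_xe_inv]
    apply Subtype.ext
    simp only [Matrix.SpecialLinearGroup.coe_mul, MODE_coe_xe, MODE_coe_ye, MODE_coe_he, coe_cM]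
    ext i j
    fin_cases i <;> fin_cases j <;> simp [Matrix.mul_apply, Fin.sum_univ_three, hz]

end Cfsg.Agent.Helper1.SL3P
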