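import Mathlib
import Cfsg.Agent.Helper1.SL3P.Defs
import Cfsg.Agent.Helper9.Sp4P.P_SL2F
import Cfsg.Agent.Helper9.Sp4P.P_EXT1
import Cfsg.Agent.Helper9.Sp4P.P_SQ
import Cfsg.Agent.Helper9.Sp4P.P_CW

/-!
# S2287 piece (MODO) -- see `tools/helper1_s2287/README.md` and board WANTED of helper1.
-/

set_option autoImplicit false

namespace Cfsg.Agent.Helper1.SL3P

open Matrix Cfsg.Agent.Helper96.StemSLTwo Cfsg.Agent.Helper96.StPres Cfsg.Agent.Helper9.Sp4P
  Cfsg.Agent.Helper96.StN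

universe u v

variable {K : Type u} [Field K] {D : Type v} [Group D]

variable (F : Type u) [Field F]

theorem MODO_coe_xe (t : F) :
    ((xe (eA F) t : SL3 F) : Matrix (Fin 3) (Fin 3) F) = !![1, t, 0; 0, 1, 0; 0, 0, 1] := by
  rw [xe, coe_eA, uMat_coe]
  simp

theorem MODO_coe_ye (t : F) :
    ((ye (eA F) t : SL3 F) : Matrix (Fin 3) (Fin 3) F) = !![1, 0, 0; t, 1, 0; 0, 0, 1] := by
  rw [ye, coe_eA, lMat_coe]
  simp

theorem MODO_coe_we :
    ((we (eA F) : SL3 F) : Matrix (Fin 3) (Fin 3) F) = !![0, 1, 0; -1, 0, 0; 0, 0, 1] := by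
  rw [we, coe_eA, WU_coe (1 : F) one_ne_zero]
  simp

theorem MODO_coe_he (z : Fˣ) :
    ((he (eA F) z : SL3 F) : Matrix (Fin 3) (Fin 3) F) =
      !![(z : F), 0, 0; 0, (z : F)⁻¹, 0; 0, 0, 1] := by
  rw [he, coe_eA, dMat_coe]
  simp

theorem MODO_c3 : cM F * cM F * cM F = 1 := by
  apply Subtype.ext
  simp only [Matrix.SpecialLinearGroup.coe_mul, coe_cM, Matrix.SpecialLinearGroup.coe_one]
  ext i j
  fin_cases i <;> fin_cases j <;> simp [Matrix.mul_apply, Fin.sum_univ_three]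

theorem MODO_cinv : (cM F)⁻¹ = cM F * cM F := by
  rw [inv_eq_iff_mul_eq_one, ← mul_assoc]
  exact MODO_c3 F

theorem MODO_ccinv : (cM F * cM F)⁻¹ = cM F := by
  rw [inv_eq_iff_mul_eq_one]
  exact MODO_c3 F

theorem crossO_model (z : Fˣ) : CrossO (eA F) (cM F) z := by
  have hz : (z : F) ≠ 0 := z.ne_zero
  refine ⟨MODO_c3 F, ?_, ?_, ?_, ?_⟩
  · rw [(MODO_cinv F)]
    apply Subtype.ext
    simp only [Matrix.SpecialLinearGroup.coe_mul, coe_cM, Matrix.SpecialLinearGroup.coe_one,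
      MODO_coe_we]
    ext i j
    fin_cases i <;> fin_cases j <;> simp [Matrix.mul_apply, Fin.sum_univ_three]
  · rw [mul_inv_eq_iff_eq_mul, (MODO_cinv F)]
    apply Subtype.ext
    simp only [Matrix.SpecialLinearGroup.coe_mul, coe_cM, MODO_coe_xe, MODO_coe_he]
    ext i j
    fin_cases i <;> fin_cases j <;> simp [Matrix.mul_apply, Fin.sum_univ_three, hz]
  · rw [mul_inv_eq_iff_eq_mul, (MODO_cinv F)]
    apply Subtype.ext
    simp only [Matrix.SpecialLinearGroup.coe_mul, coe_cM, MODO_coe_we, MODO_coe_he]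
    ext i j
    fin_cases i <;> fin_cases j <;> simp [Matrix.mul_apply, Fin.sum_univ_three, hz]
  · rw [mul_inv_eq_iff_eq_mul, mul_inv_eq_iff_eq_mul, (MODO_ccinv F), (MODO_cinv F)]
    apply Subtype.ext
    simp only [Matrix.SpecialLinearGroup.coe_mul, coe_cM, MODO_coe_xe, MODO_coe_ye]
    ext i j
    fin_cases i <;> fin_cases j <;> simp [Matrix.mul_apply, Fin.sum_univ_three]

end Cfsg.Agent.Helper1.SL3P
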