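import Mathlib
import Cfsg.Agent.Helper1.SL3P.Defs
import Cfsg.Agent.Helper9.Sp4P.P_SL2F
import Cfsg.Agent.Helper9.Sp4P.P_EXT1
import Cfsg.Agent.Helper9.Sp4P.P_SQ
import Cfsg.Agent.Helper9.Sp4P.P_CW
import Cfsg.Agent.Helper34.StNF

/-!
# S2287 piece (MODX) -- see `tools/helper1_s2287/README.md` and board WANTED of helper1.

In the matrix model (`eA` = upper left corner embedding, `cM` = the 3-cycle) the six root elements
`X3 (eA F) (cM F) i j t` are the transvections `1 + t E_{ij}` (helper90).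
-/

set_option autoImplicit false

namespace Cfsg.Agent.Helper1.SL3P

open Matrix Cfsg.Agent.Helper96.StemSLTwo Cfsg.Agent.Helper96.StPres Cfsg.Agent.Helper9.Sp4P
  Cfsg.Agent.Helper96.StN

universe u v

variable {K : Type u} [Field K] {D : Type v} [Group D]

variable (F : Type u) [Field F]

theorem MODX_01 (h : (0 : Fin 3) ≠ 1) (t : F) :
    X3 (eA F) (cM F) 0 1 t = Matrix.SpecialLinearGroup.transvection h t := by
  apply Subtype.ext
  show ((eA F (uMat F t) : SL3 F) : Matrix (Fin 3) (Fin 3) F) = _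
  rw [coe_eA, Matrix.SpecialLinearGroup.transvection_coe, uMat_coe]
  ext k l
  fin_cases k <;> fin_cases l <;> simp [Matrix.single_apply]

theorem MODX_10 (h : (1 : Fin 3) ≠ 0) (t : F) :
    X3 (eA F) (cM F) 1 0 t = Matrix.SpecialLinearGroup.transvection h t := by
  apply Subtype.ext
  show ((eA F (lMat F t) : SL3 F) : Matrix (Fin 3) (Fin 3) F) = _
  rw [coe_eA, Matrix.SpecialLinearGroup.transvection_coe, lMat_coe]
  ext k l
  fin_cases k <;> fin_cases l <;> simp [Matrix.single_apply]

theorem MODX_12 (h : (1 : Fin 3) ≠ 2) (t : F) :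
    X3 (eA F) (cM F) 1 2 t = Matrix.SpecialLinearGroup.transvection h t := by
  show cM F * eA F (uMat F t) * (cM F)⁻¹ = _
  rw [mul_inv_eq_iff_eq_mul]
  apply Subtype.ext
  rw [Matrix.SpecialLinearGroup.coe_mul, Matrix.SpecialLinearGroup.coe_mul, coe_cM, coe_eA,
    Matrix.SpecialLinearGroup.transvection_coe, uMat_coe]
  ext k l
  fin_cases k <;> fin_cases l <;>
    simp [Matrix.mul_apply, Fin.sum_univ_three, Matrix.single_apply, Matrix.add_apply]

theorem MODX_21 (h : (2 : Fin 3) ≠ 1) (t : F) :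
    X3 (eA F) (cM F) 2 1 t = Matrix.SpecialLinearGroup.transvection h t := by
  show cM F * eA F (lMat F t) * (cM F)⁻¹ = _
  rw [mul_inv_eq_iff_eq_mul]
  apply Subtype.ext
  rw [Matrix.SpecialLinearGroup.coe_mul, Matrix.SpecialLinearGroup.coe_mul, coe_cM, coe_eA,
    Matrix.SpecialLinearGroup.transvection_coe, lMat_coe]
  ext k l
  fin_cases k <;> fin_cases l <;>
    simp [Matrix.mul_apply, Fin.sum_univ_three, Matrix.single_apply, Matrix.add_apply]

theorem MODX_20 (h : (2 : Fin 3) ≠ 0) (t : F) :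
    X3 (eA F) (cM F) 2 0 t = Matrix.SpecialLinearGroup.transvection h t := by
  show cM F * cM F * eA F (uMat F t) * (cM F * cM F)⁻¹ = _
  rw [mul_inv_eq_iff_eq_mul]
  apply Subtype.ext
  rw [Matrix.SpecialLinearGroup.coe_mul, Matrix.SpecialLinearGroup.coe_mul,
    Matrix.SpecialLinearGroup.coe_mul, Matrix.SpecialLinearGroup.coe_mul, coe_cM, coe_eA,
    Matrix.SpecialLinearGroup.transvection_coe, uMat_coe]
  ext k l
  fin_cases k <;> fin_cases l <;>
    simp [Matrix.mul_apply, Fin.sum_univ_three, Matrix.single_apply, Matrix.add_apply]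

theorem MODX_02 (h : (0 : Fin 3) ≠ 2) (t : F) :
    X3 (eA F) (cM F) 0 2 t = Matrix.SpecialLinearGroup.transvection h t := by
  show cM F * cM F * eA F (lMat F t) * (cM F * cM F)⁻¹ = _
  rw [mul_inv_eq_iff_eq_mul]
  apply Subtype.ext
  rw [Matrix.SpecialLinearGroup.coe_mul, Matrix.SpecialLinearGroup.coe_mul,
    Matrix.SpecialLinearGroup.coe_mul, Matrix.SpecialLinearGroup.coe_mul, coe_cM, coe_eA,
    Matrix.SpecialLinearGroup.transvection_coe, lMat_coe]
  ext k l
  fin_cases k <;> fin_cases l <;>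
    simp [Matrix.mul_apply, Fin.sum_univ_three, Matrix.single_apply, Matrix.add_apply]

theorem X3_model (i j : Fin 3) (h : i ≠ j) (t : F) :
    X3 (eA F) (cM F) i j t = Matrix.SpecialLinearGroup.transvection h t := by
  fin_cases i <;> fin_cases j
  · exact absurd rfl h
  · exact MODX_01 F h t
  · exact MODX_02 F h t
  · exact MODX_10 F h t
  · exact absurd rfl h
  · exact MODX_12 F h t
  · exact MODX_20 F h t
  · exact MODX_21 F h t
  · exact absurd rfl h

end Cfsg.Agent.Helper1.SL3P
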