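import Mathlib
import Cfsg.Agent.Helper1.SL3P.Defs

/-!
# S2287 piece (NAT) -- see `tools/helper1_s2287/README.md` and board WANTED of helper1.
-/

set_option autoImplicit false

namespace Cfsg.Agent.Helper1.SL3P

open Matrix Cfsg.Agent.Helper96.StemSLTwo Cfsg.Agent.Helper96.StPres Cfsg.Agent.Helper9.Sp4P

universe u v

variable {K : Type u} [Field K] {D : Type v} [Group D]

theorem map_X3 {E : Type*} [Group E] (φ : D →* E) (a : SL2 K →* D) (c : D) (i j : Fin 3) (t : K) :
    φ (X3 a c i j t) = X3 (φ.comp a) (φ c) i j t := by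
  fin_cases i <;> fin_cases j <;>
    simp [X3, xe, ye, map_mul, map_inv, MonoidHom.comp_apply]

end Cfsg.Agent.Helper1.SL3P
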