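import Mathlib
import Cfsg.Agent.Helper1.SL3P.Defs
import Cfsg.Agent.Helper9.Sp4P.P_SL2F
import Cfsg.Agent.Helper9.Sp4P.P_EXT1
import Cfsg.Agent.Helper9.Sp4P.P_SQ
import Cfsg.Agent.Helper9.Sp4P.P_CW

/-!
# S2287 piece (O2B) -- see `tools/helper1_s2287/README.md` and board WANTED of helper1.
-/

set_option autoImplicit false

namespace Cfsg.Agent.Helper1.SL3P

open Matrix Cfsg.Agent.Helper96.StemSLTwo Cfsg.Agent.Helper96.StPres Cfsg.Agent.Helper9.Sp4P
  Cfsg.Agent.Helper96.StN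

universe u v

variable {K : Type u} [Field K] {D : Type v} [Group D]


/-- the matrix of the diagonal automorphism `g ↦ !![g00, z⁻¹ g01; z g10, g11]` -/
def O2B_mat (z : K) (g : Matrix (Fin 2) (Fin 2) K) : Matrix (Fin 2) (Fin 2) K :=
  !![g 0 0, z⁻¹ * g 0 1; z * g 1 0, g 1 1]

theorem O2B_mat_mul (z : K) (hz : z ≠ 0) (g g' : Matrix (Fin 2) (Fin 2) K) :
    O2B_mat z (g * g') = O2B_mat z g * O2B_mat z g' := by
  ext i j
  fin_cases i <;> fin_cases j <;>
    simp [O2B_mat, Matrix.mul_apply, Fin.sum_univ_two] <;> field_simp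

theorem O2B_mat_one (z : K) : O2B_mat z (1 : Matrix (Fin 2) (Fin 2) K) = 1 := by
  ext i j
  fin_cases i <;> fin_cases j <;> simp [O2B_mat]

theorem O2B_mat_det (z : K) (hz : z ≠ 0) (g : Matrix (Fin 2) (Fin 2) K) :
    (O2B_mat z g).det = g.det := by
  rw [O2B_mat, Matrix.det_fin_two_of, Matrix.det_fin_two]
  field_simp

/-- the diagonal automorphism `g ↦ !![g00, z⁻¹ g01; z g10, g11]` of `SL₂(K)` -/
def O2B_delta (z : Kˣ) : SL2 K →* SL2 K where
  toFun g := ⟨O2B_mat (z : K) g.1, by rw [O2B_mat_det _ z.ne_zero]; exact g.2⟩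
  map_one' := Subtype.ext (O2B_mat_one (z : K))
  map_mul' g g' := Subtype.ext (O2B_mat_mul (z : K) z.ne_zero g.1 g'.1)

theorem O2B_delta_coe (z : Kˣ) (g : SL2 K) :
    ((O2B_delta z g : SL2 K) : Matrix (Fin 2) (Fin 2) K) =
      !![g.1 0 0, (z : K)⁻¹ * g.1 0 1; (z : K) * g.1 1 0, g.1 1 1] := rfl

theorem O2B_delta_uMat (z : Kˣ) : O2B_delta z (uMat K 1) = uMat K ((z : K)⁻¹) := by
  apply Subtype.ext
  rw [O2B_delta_coe, uMat_coe]
  ext i j
  fin_cases i <;> fin_cases j <;> simp [uMat_coe]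

theorem O2B_delta_dMat (z : Kˣ) :
    O2B_delta z (dMat (z : K) z.ne_zero) = dMat (z : K) z.ne_zero := by
  apply Subtype.ext
  rw [O2B_delta_coe, dMat_coe]
  ext i j
  fin_cases i <;> fin_cases j <;> simp

theorem O2B_delta_dw (z : Kˣ) :
    O2B_delta z (dMat (z : K) z.ne_zero * WU (1 : K)) = WU (1 : K) := by
  apply Subtype.ext
  have hz : (z : K) ≠ 0 := z.ne_zero
  rw [O2B_delta_coe, SL2F_WU_one_coe, Matrix.SpecialLinearGroup.coe_mul, dMat_coe, SL2F_WU_one_coe]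
  ext i j
  fin_cases i <;> fin_cases j <;> simp [Matrix.mul_apply, Fin.sum_univ_two, hz]

theorem O2B_delta_WU (z : Kˣ) :
    O2B_delta z (WU (1 : K)) = (dMat (z : K) z.ne_zero)⁻¹ * WU (1 : K) := by
  have h := O2B_delta_dw z
  rw [map_mul, O2B_delta_dMat] at h
  calc O2B_delta z (WU (1 : K))
      = (dMat (z : K) z.ne_zero)⁻¹ * (dMat (z : K) z.ne_zero * O2B_delta z (WU (1 : K))) := by
        rw [inv_mul_cancel_left]
    _ = (dMat (z : K) z.ne_zero)⁻¹ * WU (1 : K) := by rw [h]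

theorem crossB_of_crossO {a : SL2 K →* D} {c : D} {z : Kˣ}
    (hgen : Subgroup.closure {uMat K 1, dMat (z : K) z.ne_zero * WU (1 : K)} = ⊤)
    (hO : CrossO a c z) : CrossB a c z := by
  -- the two homomorphisms
  let f1 : SL2 K →* D := (MulAut.conj (c * he a z * c⁻¹)).toMonoidHom.comp a
  let f2 : SL2 K →* D := a.comp (O2B_delta z)
  have hf1 : ∀ g, f1 g = (c * he a z * c⁻¹) * a g * (c * he a z * c⁻¹)⁻¹ := fun g => rfl
  have hf2 : ∀ g, f2 g = a (O2B_delta z g) := fun g => rfl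
  have heq : f1 = f2 := by
    refine MonoidHom.eq_of_eqOn_dense hgen ?_
    intro g hg
    rcases hg with rfl | hg
    · rw [hf1, hf2, O2B_delta_uMat]
      exact hO.act
    · rw [Set.mem_singleton_iff] at hg
      subst hg
      rw [hf1, hf2, O2B_delta_dw, map_mul]
      exact hO.wt'
  refine ⟨hO.c3, hO.cw, ?_, hO.act, ?_, hO.mul⟩
  · -- tc
    have h := DFunLike.congr_fun heq (dMat (z : K) z.ne_zero)
    rw [hf1, hf2, O2B_delta_dMat] at h
    have h' : (c * he a z * c⁻¹) * he a z * (c * he a z * c⁻¹)⁻¹ = he a z := h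
    show (c * he a z * c⁻¹) * he a z = he a z * (c * he a z * c⁻¹)
    calc (c * he a z * c⁻¹) * he a z
        = ((c * he a z * c⁻¹) * he a z * (c * he a z * c⁻¹)⁻¹) * (c * he a z * c⁻¹) := by
          simp only [mul_assoc, inv_mul_cancel, mul_one]
      _ = he a z * (c * he a z * c⁻¹) := by rw [h']
  · -- wt
    have h := DFunLike.congr_fun heq (WU (1 : K))
    rw [hf1, hf2, O2B_delta_WU, map_mul, map_inv] at h
    exact h

end Cfsg.Agent.Helper1.SL3P
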