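import Mathlib
import Cfsg.Agent.Helper1.SL3P.Defs
import Cfsg.Agent.Helper9.Sp4P.P_SL2F
import Cfsg.Agent.Helper9.Sp4P.P_EXT1
import Cfsg.Agent.Helper9.Sp4P.P_SQ
import Cfsg.Agent.Helper9.Sp4P.P_CW

/-!
# S2287 piece (ST) -- see `tools/helper1_s2287/README.md` and board WANTED of helper1.
-/

set_option autoImplicit false

namespace Cfsg.Agent.Helper1.SL3P

open Matrix Cfsg.Agent.Helper96.StemSLTwo Cfsg.Agent.Helper96.StPres Cfsg.Agent.Helper9.Sp4P
  Cfsg.Agent.Helper96.StN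

universe u v

variable {K : Type u} [Field K] {D : Type v} [Group D]

/-- conjugation by `c` transports a commutation relation between root elements -/
theorem ST_comm_c {a : SL2 K →* D} {c : D} (hW : WeylAct3 a c) {i j k l : Fin 3}
    (h : ∀ t u : K, Commute (X3 a c i j t) (X3 a c k l u)) :
    ∀ t u : K, Commute (X3 a c (i + 1) (j + 1) t) (X3 a c (k + 1) (l + 1) u) := by
  intro t u
  have h1 := (h t u).map (MulAut.conj c)
  rwa [MulAut.conj_apply, MulAut.conj_apply, hW.cact, hW.cact] at h1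

/-- conjugation by `c` transports a commutator relation between root elements -/
theorem ST_mul_c {a : SL2 K →* D} {c : D} (hW : WeylAct3 a c) {i j l : Fin 3}
    (h : ∀ t u : K, X3 a c i j t * X3 a c j l u * (X3 a c i j t)⁻¹ * (X3 a c j l u)⁻¹ =
      X3 a c i l (t * u)) :
    ∀ t u : K, X3 a c (i + 1) (j + 1) t * X3 a c (j + 1) (l + 1) u *
      (X3 a c (i + 1) (j + 1) t)⁻¹ * (X3 a c (j + 1) (l + 1) u)⁻¹ =
      X3 a c (i + 1) (l + 1) (t * u) := by
  intro t u
  have h1 := congrArg (MulAut.conj c) (h t u)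
  rwa [map_mul, map_mul, map_mul, map_inv, map_inv, MulAut.conj_apply, MulAut.conj_apply,
    MulAut.conj_apply, hW.cact, hW.cact, hW.cact] at h1

theorem ST_m102 {a : SL2 K →* D} {c : D} (hW : WeylAct3 a c) (hF : Full012 a c) :
    ∀ t u : K, X3 a c 1 0 t * X3 a c 0 2 u * (X3 a c 1 0 t)⁻¹ * (X3 a c 0 2 u)⁻¹ =
      X3 a c 1 2 (t * u) := by
  intro t u
  have s00 : Equiv.swap (0 : Fin 3) 1 0 = 1 := by decide
  have s01 : Equiv.swap (0 : Fin 3) 1 1 = 0 := by decide
  have s02 : Equiv.swap (0 : Fin 3) 1 2 = 2 := by decide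
  have e0 : eta 0 = -1 := by decide
  have e1 : eta 1 = 1 := by decide
  have e2 : eta 2 = 1 := by decide
  have w01 := hW.wact 0 1 (-t)
  have w12 := hW.wact 1 2 u
  have w02 := hW.wact 0 2 (-t * u)
  rw [s00, s01, e0, e1] at w01
  rw [s01, s02, e1, e2] at w12
  rw [s00, s02, e0, e2] at w02
  have h01 : we a * X3 a c 0 1 (-t) * (we a)⁻¹ = X3 a c 1 0 t := by
    rw [w01]; congr 1; push_cast; ring
  have h12 : we a * X3 a c 1 2 u * (we a)⁻¹ = X3 a c 0 2 u := by
    rw [w12]; congr 1; push_cast; ring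
  have h02 : we a * X3 a c 0 2 (-t * u) * (we a)⁻¹ = X3 a c 1 2 (t * u) := by
    rw [w02]; congr 1; push_cast; ring
  have h1 := congrArg (MulAut.conj (we a)) (hF.m (-t) u)
  rwa [map_mul, map_mul, map_mul, map_inv, map_inv, MulAut.conj_apply, MulAut.conj_apply,
    MulAut.conj_apply, h01, h12, h02] at h1

theorem stRel_of_full {a : SL2 K →* D} {c : D}
    (hadd : ∀ (i j : Fin 3) (t u : K), X3 a c i j (t + u) = X3 a c i j t * X3 a c i j u)
    (hW : WeylAct3 a c) (hF : Full012 a c) :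
    StRel (X3 a c) := by
  -- the six commutator relations
  have m012 : ∀ t u : K, X3 a c 0 1 t * X3 a c 1 2 u * (X3 a c 0 1 t)⁻¹ * (X3 a c 1 2 u)⁻¹ =
      X3 a c 0 2 (t * u) := hF.m
  have m120 : ∀ t u : K, X3 a c 1 2 t * X3 a c 2 0 u * (X3 a c 1 2 t)⁻¹ * (X3 a c 2 0 u)⁻¹ =
      X3 a c 1 0 (t * u) := ST_mul_c hW m012
  have m201 : ∀ t u : K, X3 a c 2 0 t * X3 a c 0 1 u * (X3 a c 2 0 t)⁻¹ * (X3 a c 0 1 u)⁻¹ =
      X3 a c 2 1 (t * u) := ST_mul_c hW m120
  have m102 : ∀ t u : K, X3 a c 1 0 t * X3 a c 0 2 u * (X3 a c 1 0 t)⁻¹ * (X3 a c 0 2 u)⁻¹ =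
      X3 a c 1 2 (t * u) := ST_m102 hW hF
  have m210 : ∀ t u : K, X3 a c 2 1 t * X3 a c 1 0 u * (X3 a c 2 1 t)⁻¹ * (X3 a c 1 0 u)⁻¹ =
      X3 a c 2 0 (t * u) := ST_mul_c hW m102
  have m021 : ∀ t u : K, X3 a c 0 2 t * X3 a c 2 1 u * (X3 a c 0 2 t)⁻¹ * (X3 a c 2 1 u)⁻¹ =
      X3 a c 0 1 (t * u) := ST_mul_c hW m210
  -- commutation: same root, same row, same column
  have same : ∀ (i j : Fin 3) (t u : K), Commute (X3 a c i j t) (X3 a c i j u) := by
    intro i j t u
    show _ = _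
    rw [← hadd, ← hadd, add_comm]
  have r0 : ∀ t u : K, Commute (X3 a c 0 1 t) (X3 a c 0 2 u) := hF.c1
  have r1 : ∀ t u : K, Commute (X3 a c 1 2 t) (X3 a c 1 0 u) := ST_comm_c hW r0
  have r2 : ∀ t u : K, Commute (X3 a c 2 0 t) (X3 a c 2 1 u) := ST_comm_c hW r1
  have k2 : ∀ t u : K, Commute (X3 a c 1 2 t) (X3 a c 0 2 u) := hF.c2
  have k0 : ∀ t u : K, Commute (X3 a c 2 0 t) (X3 a c 1 0 u) := ST_comm_c hW k2
  have k1 : ∀ t u : K, Commute (X3 a c 0 1 t) (X3 a c 2 1 u) := ST_comm_c hW k0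
  refine ⟨fun i j _ t u => hadd i j t u, ?_, ?_⟩
  · intro i j k l hij hkl hjk hil t u
    fin_cases i <;> fin_cases j <;> fin_cases k <;> fin_cases l <;>
      first
      | exact absurd rfl hij
      | exact absurd rfl hkl
      | exact absurd rfl hjk
      | exact absurd rfl hil
      | exact same _ _ t u
      | exact r0 t u
      | exact (r0 u t).symm
      | exact r1 t u
      | exact (r1 u t).symm
      | exact r2 t u
      | exact (r2 u t).symm
      | exact k0 t u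
      | exact (k0 u t).symm
      | exact k1 t u
      | exact (k1 u t).symm
      | exact k2 t u
      | exact (k2 u t).symm
  · intro i j l hij hjl hil t u
    fin_cases i <;> fin_cases j <;> fin_cases l <;>
      first
      | exact absurd rfl hij
      | exact absurd rfl hjl
      | exact absurd rfl hil
      | exact m012 t u
      | exact m120 t u
      | exact m201 t u
      | exact m102 t u
      | exact m210 t u
      | exact m021 t u

end Cfsg.Agent.Helper1.SL3P
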