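import Mathlib
import Cfsg.Agent.Helper1.SL3P.Defs

/-!
# S2287 piece (TSHIFT) -- see `tools/helper1_s2287/README.md` and board WANTED of helper1.
-/

set_option autoImplicit false

namespace Cfsg.Agent.Helper1.SL3P

open Matrix Cfsg.Agent.Helper96.StemSLTwo Cfsg.Agent.Helper96.StPres Cfsg.Agent.Helper9.Sp4P

universe u v

variable {K : Type u} [Field K] {D : Type v} [Group D]

theorem TSHIFT_inv {c : D} (hc3 : c * c * c = 1) : c⁻¹ = c * c := by
  apply inv_eq_of_mul_eq_one_right
  rw [← mul_assoc]; exact hc3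

theorem hh_shift {a : SL2 K →* D} {c : D} (hc3 : c * c * c = 1) (i : Fin 3) (s : Kˣ) :
    c * hh a c i s * c⁻¹ = hh a c (i + 1) s := by
  have hci := TSHIFT_inv hc3
  fin_cases i
  · show c * he a s * c⁻¹ = c * he a s * c⁻¹
    rfl
  · show c * (c * he a s * c⁻¹) * c⁻¹ = c * c * he a s * (c * c)⁻¹
    group
  · show c * (c * c * he a s * (c * c)⁻¹) * c⁻¹ = he a s
    have h1 : c * (c * c) = 1 := by rw [← mul_assoc]; exact hc3
    calc c * (c * c * he a s * (c * c)⁻¹) * c⁻¹
        = (c * (c * c)) * he a s * (c * (c * c))⁻¹ := by group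
      _ = he a s := by rw [h1]; group

end Cfsg.Agent.Helper1.SL3P
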