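import Mathlib
import Cfsg.Agent.Helper1.SL3P.Defs

/-!
# S2287 piece (XSHIFT) -- see `tools/helper1_s2287/README.md` and board WANTED of helper1.
-/

set_option autoImplicit false

namespace Cfsg.Agent.Helper1.SL3P

open Matrix Cfsg.Agent.Helper96.StemSLTwo Cfsg.Agent.Helper96.StPres Cfsg.Agent.Helper9.Sp4P

universe u v

variable {K : Type u} [Field K] {D : Type v} [Group D]

theorem XSHIFT_aux {c : D} (hc3 : c * c * c = 1) (g : D) :
    c * (c * c * g * (c * c)⁻¹) * c⁻¹ = g := by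
  have h1 : c * (c * c) = 1 := by rw [← mul_assoc]; exact hc3
  calc c * (c * c * g * (c * c)⁻¹) * c⁻¹
      = (c * (c * c)) * g * (c * (c * c))⁻¹ := by group
    _ = g := by rw [h1]; group

theorem X3_shift {a : SL2 K →* D} {c : D} (hc3 : c * c * c = 1) (i j : Fin 3) (t : K) :
    c * X3 a c i j t * c⁻¹ = X3 a c (i + 1) (j + 1) t := by
  fin_cases i <;> fin_cases j
  · show c * 1 * c⁻¹ = 1
    group
  · show c * xe a t * c⁻¹ = c * xe a t * c⁻¹
    rfl
  · show c * (c * c * ye a t * (c * c)⁻¹) * c⁻¹ = ye a t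
    exact XSHIFT_aux hc3 _
  · show c * ye a t * c⁻¹ = c * ye a t * c⁻¹
    rfl
  · show c * 1 * c⁻¹ = 1
    group
  · show c * (c * xe a t * c⁻¹) * c⁻¹ = c * c * xe a t * (c * c)⁻¹
    group
  · show c * (c * c * xe a t * (c * c)⁻¹) * c⁻¹ = xe a t
    exact XSHIFT_aux hc3 _
  · show c * (c * ye a t * c⁻¹) * c⁻¹ = c * c * ye a t * (c * c)⁻¹
    group
  · show c * 1 * c⁻¹ = 1
    group

end Cfsg.Agent.Helper1.SL3P
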