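import Mathlib
import Cfsg.Agent.Helper1.SL3P.Defs
import Cfsg.Agent.Helper1.SL3P.P_TSHIFT
import Cfsg.Agent.Helper1.SL3P.P_XSHIFT

/-!
# S2287 piece (TACT) -- see `tools/helper1_s2287/README.md` and board WANTED of helper1.
-/

set_option autoImplicit false

namespace Cfsg.Agent.Helper1.SL3P

open Matrix Cfsg.Agent.Helper96.StemSLTwo Cfsg.Agent.Helper96.StPres Cfsg.Agent.Helper9.Sp4P

universe u v

variable {K : Type u} [Field K] {D : Type v} [Group D]

theorem TACT_ch_shift : ∀ i j k : Fin 3, ch (i + 1) (j + 1) (k + 1) = ch i j k := by decide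

theorem torus_act {a : SL2 K →* D} {c : D} (hc3 : c * c * c = 1)
    (hL0 : ∀ (i : Fin 3) (s : Kˣ) (t : K),
      hh a c i s * xe a t * (hh a c i s)⁻¹ = xe a (((s ^ ch i 0 1 : Kˣ) : K) * t) ∧
      hh a c i s * ye a t * (hh a c i s)⁻¹ = ye a (((s ^ ch i 1 0 : Kˣ) : K) * t)) :
    ∀ (i j k : Fin 3) (s : Kˣ) (t : K),
      hh a c i s * X3 a c j k t * (hh a c i s)⁻¹ = X3 a c j k (((s ^ ch i j k : Kˣ) : K) * t) := by
  have shift : ∀ i j k : Fin 3,
      (∀ (s : Kˣ) (t : K), hh a c i s * X3 a c j k t * (hh a c i s)⁻¹ =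
        X3 a c j k (((s ^ ch i j k : Kˣ) : K) * t)) →
      (∀ (s : Kˣ) (t : K), hh a c (i + 1) s * X3 a c (j + 1) (k + 1) t * (hh a c (i + 1) s)⁻¹ =
        X3 a c (j + 1) (k + 1) (((s ^ ch (i + 1) (j + 1) (k + 1) : Kˣ) : K) * t)) := by
    intro i j k h s t
    rw [TACT_ch_shift, ← hh_shift hc3 i s, ← X3_shift hc3 j k t,
      ← X3_shift hc3 j k (((s ^ ch i j k : Kˣ) : K) * t), ← h s t]
    group
  have base01 : ∀ (i : Fin 3) (s : Kˣ) (t : K), hh a c i s * X3 a c 0 1 t * (hh a c i s)⁻¹ =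
      X3 a c 0 1 (((s ^ ch i 0 1 : Kˣ) : K) * t) := fun i s t => (hL0 i s t).1
  have base10 : ∀ (i : Fin 3) (s : Kˣ) (t : K), hh a c i s * X3 a c 1 0 t * (hh a c i s)⁻¹ =
      X3 a c 1 0 (((s ^ ch i 1 0 : Kˣ) : K) * t) := fun i s t => (hL0 i s t).2
  have hdiag : ∀ (i j : Fin 3) (s : Kˣ) (t : K), hh a c i s * X3 a c j j t * (hh a c i s)⁻¹ =
      X3 a c j j (((s ^ ch i j j : Kˣ) : K) * t) := by
    intro i j s t
    have h1 : ∀ u : K, X3 a c j j u = 1 := by
      intro u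
      fin_cases j <;> rfl
    rw [h1, h1]
    group
  intro i j k
  fin_cases i <;> fin_cases j <;> fin_cases k
  · exact hdiag 0 0
  · exact base01 0
  · exact shift 2 2 1 (shift 1 1 0 (base10 1))
  · exact base10 0
  · exact hdiag 0 1
  · exact shift 2 0 1 (base01 2)
  · exact shift 2 1 2 (shift 1 0 1 (base01 1))
  · exact shift 2 1 0 (base10 2)
  · exact hdiag 0 2
  · exact hdiag 1 0
  · exact base01 1
  · exact shift 0 2 1 (shift 2 1 0 (base10 2))
  · exact base10 1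
  · exact hdiag 1 1
  · exact shift 0 0 1 (base01 0)
  · exact shift 0 1 2 (shift 2 0 1 (base01 2))
  · exact shift 0 1 0 (base10 0)
  · exact hdiag 1 2
  · exact hdiag 2 0
  · exact base01 2
  · exact shift 1 2 1 (shift 0 1 0 (base10 0))
  · exact base10 2
  · exact hdiag 2 1
  · exact shift 1 0 1 (base01 1)
  · exact shift 1 1 2 (shift 0 0 1 (base01 0))
  · exact shift 1 1 0 (base10 1)
  · exact hdiag 2 2

end Cfsg.Agent.Helper1.SL3P
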