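import Mathlib
import Cfsg.Agent.Helper1.SL3P.Defs
import Cfsg.Agent.Helper9.Sp4P.P_SL2F
import Cfsg.Agent.Helper9.Sp4P.P_EXT1
import Cfsg.Agent.Helper9.Sp4P.P_SQ
import Cfsg.Agent.Helper9.Sp4P.P_CW

/-!
# S2287 piece (TCALL) -- see `tools/helper1_s2287/README.md` and board WANTED of helper1.
-/

set_option autoImplicit false

namespace Cfsg.Agent.Helper1.SL3P

open Matrix Cfsg.Agent.Helper96.StemSLTwo Cfsg.Agent.Helper96.StPres Cfsg.Agent.Helper9.Sp4P
  Cfsg.Agent.Helper96.StN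

universe u v

variable {K : Type u} [Field K] {D : Type v} [Group D]

theorem TCALL_he_pow (a : SL2 K →* D) (z : Kˣ) (n : ℕ) : he a (z ^ n) = (he a z) ^ n := by
  induction n with
  | zero =>
    have h1 := (sl2Facts a).h_mul 1 1
    rw [mul_one] at h1
    rw [pow_zero, pow_zero]
    exact (mul_eq_left (a := he a 1) (b := he a 1)).mp h1.symm
  | succ n ih =>
    rw [pow_succ, (sl2Facts a).h_mul, ih, pow_succ]

theorem TCALL_conj_pow (c g : D) (n : ℕ) : c * g ^ n * c⁻¹ = (c * g * c⁻¹) ^ n := by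
  exact (conj_pow (a := c) (b := g) (i := n)).symm

theorem tc_all {a : SL2 K →* D} {c : D} {z : Kˣ} (hz : ∀ s : Kˣ, ∃ n : ℕ, z ^ n = s)
    (htc : Commute (c * he a z * c⁻¹) (he a z)) :
    ∀ s s' : Kˣ, Commute (c * he a s * c⁻¹) (he a s') := by
  intro s s'
  obtain ⟨n, rfl⟩ := hz s
  obtain ⟨m, rfl⟩ := hz s'
  rw [TCALL_he_pow, TCALL_he_pow, TCALL_conj_pow]
  exact htc.pow_pow n m

end Cfsg.Agent.Helper1.SL3P
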