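import Mathlib
import Cfsg.Agent.Helper1.SL3P.Defs
import Cfsg.Agent.Helper9.Sp4P.P_SL2F
import Cfsg.Agent.Helper9.Sp4P.P_EXT1
import Cfsg.Agent.Helper9.Sp4P.P_SQ
import Cfsg.Agent.Helper9.Sp4P.P_CW

/-!
# S2287 piece (TCOMM) -- see `tools/helper1_s2287/README.md` and board WANTED of helper1.
-/

set_option autoImplicit false

namespace Cfsg.Agent.Helper1.SL3P

open Matrix Cfsg.Agent.Helper96.StemSLTwo Cfsg.Agent.Helper96.StPres Cfsg.Agent.Helper9.Sp4P
  Cfsg.Agent.Helper96.StN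

universe u v

variable {K : Type u} [Field K] {D : Type v} [Group D]

theorem TCOMM_h00 (a : SL2 K →* D) (s s' : Kˣ) : Commute (he a s) (he a s') := by
  have F := sl2Facts a
  show he a s * he a s' = he a s' * he a s
  rw [← F.h_mul, ← F.h_mul, mul_comm]

theorem torus_comm {a : SL2 K →* D} {c : D} (hc3 : c * c * c = 1)
    (htc : ∀ s s' : Kˣ, Commute (c * he a s * c⁻¹) (he a s'))
    (htp : ∀ s : Kˣ, c * c * he a s * (c * c)⁻¹ = (he a s * (c * he a s * c⁻¹))⁻¹) :
    ∀ (i i' : Fin 3) (s s' : Kˣ), Commute (hh a c i s) (hh a c i' s') := by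
  have h00 : ∀ s s' : Kˣ, Commute (he a s) (he a s') := TCOMM_h00 a
  have h11 : ∀ s s' : Kˣ, Commute (c * he a s * c⁻¹) (c * he a s' * c⁻¹) :=
    fun s s' => (Commute.conj_iff c).2 (h00 s s')
  have h22 : ∀ s s' : Kˣ, Commute (c * c * he a s * (c * c)⁻¹) (c * c * he a s' * (c * c)⁻¹) :=
    fun s s' => (Commute.conj_iff (c * c)).2 (h00 s s')
  have h02 : ∀ s s' : Kˣ, Commute (he a s) (c * c * he a s' * (c * c)⁻¹) := by
    intro s s'
    rw [htp]
    exact ((h00 s s').mul_right (htc s' s).symm).inv_right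
  have h12 : ∀ s s' : Kˣ, Commute (c * he a s * c⁻¹) (c * c * he a s' * (c * c)⁻¹) := by
    intro s s'
    rw [htp]
    exact ((htc s s').mul_right (h11 s s')).inv_right
  intro i i' s s'
  fin_cases i <;> fin_cases i'
  · exact h00 s s'
  · exact (htc s' s).symm
  · exact h02 s s'
  · exact htc s s'
  · exact h11 s s'
  · exact h12 s s'
  · exact (h02 s' s).symm
  · exact (h12 s' s).symm
  · exact h22 s s'

end Cfsg.Agent.Helper1.SL3P
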