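import Mathlib
import Cfsg.Agent.Helper1.SL3P.Defs
import Cfsg.Agent.Helper9.Sp4P.P_SL2F
import Cfsg.Agent.Helper9.Sp4P.P_EXT1
import Cfsg.Agent.Helper9.Sp4P.P_SQ
import Cfsg.Agent.Helper9.Sp4P.P_CW

/-!
# S2287 piece (TL0) -- see `tools/helper1_s2287/README.md` and board WANTED of helper1.
(filled by helper87)
-/

set_option autoImplicit false

namespace Cfsg.Agent.Helper1.SL3P

open Matrix Cfsg.Agent.Helper96.StemSLTwo Cfsg.Agent.Helper96.StPres Cfsg.Agent.Helper9.Sp4P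
  Cfsg.Agent.Helper96.StN

universe u v

variable {K : Type u} [Field K] {D : Type v} [Group D]

theorem TL0_ch001 : ch 0 0 1 = 2 := by decide
theorem TL0_ch010 : ch 0 1 0 = -2 := by decide
theorem TL0_ch101 : ch 1 0 1 = -1 := by decide
theorem TL0_ch110 : ch 1 1 0 = 1 := by decide
theorem TL0_ch201 : ch 2 0 1 = -1 := by decide
theorem TL0_ch210 : ch 2 1 0 = 1 := by decide

/-- if `g` scales a one parameter family by `α ≠ 0` then `g⁻¹` scales it by `α⁻¹` -/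
theorem TL0_inv_conj {f : K → D} {g : D} {α : K} (hα : α ≠ 0)
    (h : ∀ t, g * f t * g⁻¹ = f (α * t)) (t : K) : g⁻¹ * f t * g = f (α⁻¹ * t) := by
  have h1 := h (α⁻¹ * t)
  rw [← mul_assoc, mul_inv_cancel₀ hα, one_mul] at h1
  rw [← h1]
  group

theorem torus_L0 {a : SL2 K →* D} {c : D}
    (hx : ∀ (s : Kˣ) (t : K),
      (c * he a s * c⁻¹) * xe a t * (c * he a s * c⁻¹)⁻¹ = xe a ((s : K)⁻¹ * t))
    (hy : ∀ (s : Kˣ) (t : K),
      (c * he a s * c⁻¹) * ye a t * (c * he a s * c⁻¹)⁻¹ = ye a ((s : K) * t))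
    (htp : ∀ s : Kˣ, c * c * he a s * (c * c)⁻¹ = (he a s * (c * he a s * c⁻¹))⁻¹) :
    ∀ (i : Fin 3) (s : Kˣ) (t : K),
      hh a c i s * xe a t * (hh a c i s)⁻¹ = xe a (((s ^ ch i 0 1 : Kˣ) : K) * t) ∧
      hh a c i s * ye a t * (hh a c i s)⁻¹ = ye a (((s ^ ch i 1 0 : Kˣ) : K) * t) := by
  have F := sl2Facts a
  intro i s t
  have hs : (s : K) ≠ 0 := s.ne_zero
  fin_cases i
  · -- `i = 0`
    show he a s * xe a t * (he a s)⁻¹ = xe a (((s ^ ch 0 0 1 : Kˣ) : K) * t) ∧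
      he a s * ye a t * (he a s)⁻¹ = ye a (((s ^ ch 0 1 0 : Kˣ) : K) * t)
    rw [TL0_ch001, TL0_ch010, F.h_x, F.h_y]
    refine ⟨?_, ?_⟩
    · congr 2
    · congr 2
      rw [_root_.zpow_neg, zpow_ofNat, Units.val_inv_eq_inv_val, Units.val_pow_eq_pow_val, inv_pow]
  · -- `i = 1`
    show (c * he a s * c⁻¹) * xe a t * (c * he a s * c⁻¹)⁻¹ = xe a (((s ^ ch 1 0 1 : Kˣ) : K) * t) ∧
      (c * he a s * c⁻¹) * ye a t * (c * he a s * c⁻¹)⁻¹ = ye a (((s ^ ch 1 1 0 : Kˣ) : K) * t)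
    rw [TL0_ch101, TL0_ch110, hx, hy, _root_.zpow_neg, zpow_one, Units.val_inv_eq_inv_val]
    exact ⟨rfl, rfl⟩
  · -- `i = 2`
    show (c * c * he a s * (c * c)⁻¹) * xe a t * (c * c * he a s * (c * c)⁻¹)⁻¹ =
        xe a (((s ^ ch 2 0 1 : Kˣ) : K) * t) ∧
      (c * c * he a s * (c * c)⁻¹) * ye a t * (c * c * he a s * (c * c)⁻¹)⁻¹ =
        ye a (((s ^ ch 2 1 0 : Kˣ) : K) * t)
    rw [TL0_ch201, TL0_ch210, htp s, _root_.zpow_neg, zpow_one, Units.val_inv_eq_inv_val]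
    have hs2 : (s : K) ^ 2 ≠ 0 := pow_ne_zero 2 hs
    have hsi : (s : K)⁻¹ ≠ 0 := inv_ne_zero hs
    have hsi2 : ((s : K)⁻¹) ^ 2 ≠ 0 := pow_ne_zero 2 hsi
    refine ⟨?_, ?_⟩
    · have e1 : ∀ u, (he a s)⁻¹ * xe a u * he a s = xe a (((s : K) ^ 2)⁻¹ * u) :=
        TL0_inv_conj hs2 (F.h_x s)
      have e2 : ∀ u, (c * he a s * c⁻¹)⁻¹ * xe a u * (c * he a s * c⁻¹) = xe a (((s : K)⁻¹)⁻¹ * u) :=
        TL0_inv_conj hsi (hx s)
      have e3 : (he a s * (c * he a s * c⁻¹))⁻¹ * xe a t * (he a s * (c * he a s * c⁻¹))⁻¹⁻¹ =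
          (c * he a s * c⁻¹)⁻¹ * ((he a s)⁻¹ * xe a t * he a s) * (c * he a s * c⁻¹) := by
        group
      rw [e3, e1, e2]
      congr 1
      field_simp
    · have e1 : ∀ u, (he a s)⁻¹ * ye a u * he a s = ye a ((((s : K)⁻¹) ^ 2)⁻¹ * u) :=
        TL0_inv_conj hsi2 (F.h_y s)
      have e2 : ∀ u, (c * he a s * c⁻¹)⁻¹ * ye a u * (c * he a s * c⁻¹) = ye a ((s : K)⁻¹ * u) :=
        TL0_inv_conj hs (hy s)
      have e3 : (he a s * (c * he a s * c⁻¹))⁻¹ * ye a t * (he a s * (c * he a s * c⁻¹))⁻¹⁻¹ =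
          (c * he a s * c⁻¹)⁻¹ * ((he a s)⁻¹ * ye a t * he a s) * (c * he a s * c⁻¹) := by
        group
      rw [e3, e1, e2]
      congr 1
      field_simp

end Cfsg.Agent.Helper1.SL3P
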