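import Mathlib
import Cfsg.Agent.Helper1.SL3P.Defs

/-!
# S2287 piece (WEYL) -- see `tools/helper1_s2287/README.md` and board WANTED of helper1.
-/

set_option autoImplicit false

namespace Cfsg.Agent.Helper1.SL3P

universe u v

variable {D : Type v} [Group D]

theorem weyl_conj {c w : D} (hc3 : c * c * c = 1) (hcw : w * c⁻¹ * w * c⁻¹ = 1) :
    (∀ g : D, w * (c * g * c⁻¹) * w⁻¹ =
      (w * w) * (c * c * (w * g * w⁻¹) * (c * c)⁻¹) * (w * w)⁻¹) ∧
    (∀ g : D, w * (c * c * g * (c * c)⁻¹) * w⁻¹ = c * (w⁻¹ * g * w) * c⁻¹) := by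
  have hci : c⁻¹ = c * c := by
    apply inv_eq_of_mul_eq_one_right
    rw [← mul_assoc]; exact hc3
  -- c = w c⁻¹ w
  have h1 : w * c⁻¹ * w = c := by
    have := hcw
    calc w * c⁻¹ * w = (w * c⁻¹ * w * c⁻¹) * c := by group
      _ = c := by rw [this, one_mul]
  have h2 : w * c = w * w * (c * c) * w := by
    calc w * c = w * (w * c⁻¹ * w) := by rw [h1]
      _ = w * w * (c * c) * w := by rw [hci]; group
  have h3 : w * (c * c) = c * w⁻¹ := by
    rw [← hci]
    calc w * c⁻¹ = (w * c⁻¹ * w * c⁻¹) * c * w⁻¹ := by group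
      _ = c * w⁻¹ := by rw [hcw, one_mul]
  constructor
  · intro g
    calc w * (c * g * c⁻¹) * w⁻¹ = (w * c) * g * (w * c)⁻¹ := by group
      _ = (w * w * (c * c) * w) * g * (w * w * (c * c) * w)⁻¹ := by rw [h2]
      _ = _ := by group
  · intro g
    calc w * (c * c * g * (c * c)⁻¹) * w⁻¹ = (w * (c * c)) * g * (w * (c * c))⁻¹ := by group
      _ = (c * w⁻¹) * g * (c * w⁻¹)⁻¹ := by rw [h3]
      _ = _ := by group

end Cfsg.Agent.Helper1.SL3P
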