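import Mathlib
import Cfsg.Agent.Helper1.SL3P.Defs
import Cfsg.Agent.Helper1.SL3P.P_WEYL
import Cfsg.Agent.Helper9.Sp4P.P_SL2F
import Cfsg.Agent.Helper9.Sp4P.P_CW

/-!
# S2287 piece (TP) -- see `tools/helper1_s2287/README.md` and board WANTED of helper1.
-/

set_option autoImplicit false

namespace Cfsg.Agent.Helper1.SL3P

open Matrix Cfsg.Agent.Helper96.StemSLTwo Cfsg.Agent.Helper96.StPres Cfsg.Agent.Helper9.Sp4P

universe u v

variable {K : Type u} [Field K] {D : Type v} [Group D]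

theorem torus_prod {a : SL2 K →* D} {c : D} (hc3 : c * c * c = 1)
    (hcw : we a * c⁻¹ * we a * c⁻¹ = 1)
    (htc : ∀ s s' : Kˣ, Commute (c * he a s * c⁻¹) (he a s'))
    (hw : ∀ s : Kˣ, (c * he a s * c⁻¹) * we a * (c * he a s * c⁻¹)⁻¹ = (he a s)⁻¹ * we a) :
    ∀ s : Kˣ, c * c * he a s * (c * c)⁻¹ = (he a s * (c * he a s * c⁻¹))⁻¹ := by
  intro s
  have F := sl2Facts a
  obtain ⟨hconj1, -⟩ := weyl_conj hc3 hcw
  -- (i)
  have h1 : we a * (c * he a s * c⁻¹) * (we a)⁻¹ = he a s * (c * he a s * c⁻¹) := by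
    have h := hw s
    calc we a * (c * he a s * c⁻¹) * (we a)⁻¹
        = he a s * ((he a s)⁻¹ * we a) * (c * he a s * c⁻¹) * (we a)⁻¹ := by group
      _ = he a s * ((c * he a s * c⁻¹) * we a * (c * he a s * c⁻¹)⁻¹) * (c * he a s * c⁻¹) *
            (we a)⁻¹ := by rw [h]
      _ = he a s * (c * he a s * c⁻¹) := by group
  -- (iii)
  have hcomm : ∀ s1 s2 : Kˣ, Commute (he a s1) (c * c * he a s2 * (c * c)⁻¹) := by
    intro s1 s2
    have h := (Commute.conj_iff (c * c)).mpr (htc s2 s1)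
    have e : c * c * (c * he a s2 * c⁻¹) * (c * c)⁻¹ = c * c * c * he a s2 * (c * c * c)⁻¹ := by
      group
    have h3 : c * c * c * he a s2 * (c * c * c)⁻¹ = he a s2 := by
      rw [hc3]; group
    -- h : Commute (cc (c h2 c⁻¹) (cc)⁻¹) (cc h1 (cc)⁻¹)
    have h' : Commute (c * he a s2 * c⁻¹) (he a s1) := htc s2 s1
    have h4 := (Commute.conj_iff (c * c)).mpr (htc s1 s2)
    -- h4 : Commute (cc (c he s1 c⁻¹) (cc)⁻¹) (cc he s2 (cc)⁻¹)
    have e1 : c * c * (c * he a s1 * c⁻¹) * (c * c)⁻¹ = he a s1 := by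
      calc c * c * (c * he a s1 * c⁻¹) * (c * c)⁻¹
          = c * c * c * he a s1 * (c * c * c)⁻¹ := by group
        _ = he a s1 := by rw [hc3]; group
    rw [e1] at h4
    exact h4
  -- (ii)
  have h2 : we a * (c * he a s * c⁻¹) * (we a)⁻¹ = (c * c * he a s * (c * c)⁻¹)⁻¹ := by
    rw [hconj1, F.w_h, F.w_sq, CW_he_inv]
    have hc := hcomm (-1) s
    have hc' : Commute (he a (-1)) (c * c * (he a s)⁻¹ * (c * c)⁻¹) := by
      have e : c * c * (he a s)⁻¹ * (c * c)⁻¹ = (c * c * he a s * (c * c)⁻¹)⁻¹ := conj_inv.symm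
      rw [e]
      exact hc.inv_right
    calc he a (-1) * (c * c * (he a s)⁻¹ * (c * c)⁻¹) * (he a (-1))⁻¹
        = (c * c * (he a s)⁻¹ * (c * c)⁻¹) * he a (-1) * (he a (-1))⁻¹ := by rw [hc'.eq]
      _ = (c * c * he a s * (c * c)⁻¹)⁻¹ := by rw [mul_inv_cancel_right, conj_inv]
  rw [h1] at h2
  rw [h2, inv_inv]

end Cfsg.Agent.Helper1.SL3P
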