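import Mathlib
import Cfsg.Agent.Helper1.SL3P.Defs
import Cfsg.Agent.Helper9.Sp4P.P_SL2F
import Cfsg.Agent.Helper9.Sp4P.P_EXT1
import Cfsg.Agent.Helper9.Sp4P.P_SQ
import Cfsg.Agent.Helper9.Sp4P.P_CW

/-!
# S2287 piece (WACT) -- see `tools/helper1_s2287/README.md` and board WANTED of helper1.
(filled in place by helper76)
-/

set_option autoImplicit false

namespace Cfsg.Agent.Helper1.SL3P

open Matrix Cfsg.Agent.Helper96.StemSLTwo Cfsg.Agent.Helper96.StPres Cfsg.Agent.Helper9.Sp4P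
  Cfsg.Agent.Helper96.StN

universe u v

variable {K : Type u} [Field K] {D : Type v} [Group D]

theorem WACT_swap0 : Equiv.swap (0 : Fin 3) 1 0 = 1 := Equiv.swap_apply_left 0 1

theorem WACT_swap1 : Equiv.swap (0 : Fin 3) 1 1 = 0 := Equiv.swap_apply_right 0 1

theorem WACT_swap2 : Equiv.swap (0 : Fin 3) 1 2 = 2 :=
  Equiv.swap_apply_of_ne_of_ne (by decide) (by decide)

theorem WACT_X01 (a : SL2 K →* D) (c : D) (t : K) : X3 a c 0 1 t = xe a t := rfl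

theorem WACT_X10 (a : SL2 K →* D) (c : D) (t : K) : X3 a c 1 0 t = ye a t := rfl

theorem WACT_X12 (a : SL2 K →* D) (c : D) (t : K) : X3 a c 1 2 t = c * xe a t * c⁻¹ := rfl

theorem WACT_X21 (a : SL2 K →* D) (c : D) (t : K) : X3 a c 2 1 t = c * ye a t * c⁻¹ := rfl

theorem WACT_X20 (a : SL2 K →* D) (c : D) (t : K) :
    X3 a c 2 0 t = c * c * xe a t * (c * c)⁻¹ := rfl

theorem WACT_X02 (a : SL2 K →* D) (c : D) (t : K) :
    X3 a c 0 2 t = c * c * ye a t * (c * c)⁻¹ := rfl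

theorem WACT_X00 (a : SL2 K →* D) (c : D) (t : K) : X3 a c 0 0 t = 1 := rfl

theorem WACT_X11 (a : SL2 K →* D) (c : D) (t : K) : X3 a c 1 1 t = 1 := rfl

theorem WACT_X22 (a : SL2 K →* D) (c : D) (t : K) : X3 a c 2 2 t = 1 := rfl

theorem WACT_hh0 (a : SL2 K →* D) (c : D) (s : Kˣ) : hh a c 0 s = he a s := rfl

/-- `w⁻¹ x(t) w = y(-t)` -/
theorem WACT_winv_x (a : SL2 K →* D) (t : K) : (we a)⁻¹ * xe a t * we a = ye a (-t) := by
  have h := (sl2Facts a).w_y (-t)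
  rw [neg_neg] at h
  rw [← h]
  group

/-- `w⁻¹ y(t) w = x(-t)` -/
theorem WACT_winv_y (a : SL2 K →* D) (t : K) : (we a)⁻¹ * ye a t * we a = xe a (-t) := by
  have h := (sl2Facts a).w_x (-t)
  rw [neg_neg] at h
  rw [← h]
  group

/-- `e₀ = w w = h(-1)` acts on `X02` by `-1` -/
theorem WACT_e0_X02 {a : SL2 K →* D} {c : D} (hT : TorusAct3 a c) (t : K) :
    (we a * we a) * X3 a c 0 2 t * (we a * we a)⁻¹ = X3 a c 0 2 (-t) := by
  rw [(sl2Facts a).w_sq, ← WACT_hh0 a c, hT.act 0 0 2 (-1) t]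
  congr 1
  have : ch 0 0 2 = 1 := by decide
  rw [this, zpow_one, Units.val_neg, Units.val_one, neg_one_mul]

/-- `e₀ = w w = h(-1)` acts on `X20` by `-1` -/
theorem WACT_e0_X20 {a : SL2 K →* D} {c : D} (hT : TorusAct3 a c) (t : K) :
    (we a * we a) * X3 a c 2 0 t * (we a * we a)⁻¹ = X3 a c 2 0 (-t) := by
  rw [(sl2Facts a).w_sq, ← WACT_hh0 a c, hT.act 0 2 0 (-1) t]
  congr 1
  have : ch 0 2 0 = -1 := by decide
  rw [this, _root_.zpow_neg_one, inv_neg, inv_one, Units.val_neg, Units.val_one, neg_one_mul]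

theorem weyl_act {a : SL2 K →* D} {c : D}
    (hconj1 : ∀ g : D, we a * (c * g * c⁻¹) * (we a)⁻¹ =
      (we a * we a) * (c * c * (we a * g * (we a)⁻¹) * (c * c)⁻¹) * (we a * we a)⁻¹)
    (hconj2 : ∀ g : D, we a * (c * c * g * (c * c)⁻¹) * (we a)⁻¹ =
      c * ((we a)⁻¹ * g * we a) * c⁻¹) (hT : TorusAct3 a c) :
    ∀ (i j : Fin 3) (t : K), we a * X3 a c i j t * (we a)⁻¹ =
      X3 a c (Equiv.swap 0 1 i) (Equiv.swap 0 1 j) (((eta i * eta j : ℤ) : K) * t) := by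
  have F := sl2Facts a
  have e0 : eta 0 = -1 := rfl
  have e1 : eta 1 = 1 := rfl
  have e2 : eta 2 = 1 := rfl
  have h00 : ∀ t : K, we a * X3 a c 0 0 t * (we a)⁻¹ =
      X3 a c (Equiv.swap 0 1 0) (Equiv.swap 0 1 0) (((eta 0 * eta 0 : ℤ) : K) * t) := by
    intro t
    rw [WACT_swap0, WACT_X00, WACT_X11, mul_one, mul_inv_cancel]
  have h11 : ∀ t : K, we a * X3 a c 1 1 t * (we a)⁻¹ =
      X3 a c (Equiv.swap 0 1 1) (Equiv.swap 0 1 1) (((eta 1 * eta 1 : ℤ) : K) * t) := by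
    intro t
    rw [WACT_swap1, WACT_X00, WACT_X11, mul_one, mul_inv_cancel]
  have h22 : ∀ t : K, we a * X3 a c 2 2 t * (we a)⁻¹ =
      X3 a c (Equiv.swap 0 1 2) (Equiv.swap 0 1 2) (((eta 2 * eta 2 : ℤ) : K) * t) := by
    intro t
    rw [WACT_swap2, WACT_X22, WACT_X22, mul_one, mul_inv_cancel]
  have h01 : ∀ t : K, we a * X3 a c 0 1 t * (we a)⁻¹ =
      X3 a c (Equiv.swap 0 1 0) (Equiv.swap 0 1 1) (((eta 0 * eta 1 : ℤ) : K) * t) := by
    intro t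
    rw [WACT_swap0, WACT_swap1, e0, e1, WACT_X01, WACT_X10, F.w_x]
    congr 1
    push_cast
    ring
  have h10 : ∀ t : K, we a * X3 a c 1 0 t * (we a)⁻¹ =
      X3 a c (Equiv.swap 0 1 1) (Equiv.swap 0 1 0) (((eta 1 * eta 0 : ℤ) : K) * t) := by
    intro t
    rw [WACT_swap0, WACT_swap1, e0, e1, WACT_X01, WACT_X10, F.w_y]
    congr 1
    push_cast
    ring
  have h12 : ∀ t : K, we a * X3 a c 1 2 t * (we a)⁻¹ =
      X3 a c (Equiv.swap 0 1 1) (Equiv.swap 0 1 2) (((eta 1 * eta 2 : ℤ) : K) * t) := by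
    intro t
    rw [WACT_swap1, WACT_swap2, e1, e2, WACT_X12, hconj1, F.w_x, ← WACT_X02 a c,
      WACT_e0_X02 hT]
    congr 1
    push_cast
    ring
  have h21 : ∀ t : K, we a * X3 a c 2 1 t * (we a)⁻¹ =
      X3 a c (Equiv.swap 0 1 2) (Equiv.swap 0 1 1) (((eta 2 * eta 1 : ℤ) : K) * t) := by
    intro t
    rw [WACT_swap1, WACT_swap2, e1, e2, WACT_X21, hconj1, F.w_y, ← WACT_X20 a c,
      WACT_e0_X20 hT]
    congr 1
    push_cast
    ring
  have h20 : ∀ t : K, we a * X3 a c 2 0 t * (we a)⁻¹ =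
      X3 a c (Equiv.swap 0 1 2) (Equiv.swap 0 1 0) (((eta 2 * eta 0 : ℤ) : K) * t) := by
    intro t
    rw [WACT_swap0, WACT_swap2, e0, e2, WACT_X20, hconj2, WACT_winv_x, ← WACT_X21 a c]
    congr 1
    push_cast
    ring
  have h02 : ∀ t : K, we a * X3 a c 0 2 t * (we a)⁻¹ =
      X3 a c (Equiv.swap 0 1 0) (Equiv.swap 0 1 2) (((eta 0 * eta 2 : ℤ) : K) * t) := by
    intro t
    rw [WACT_swap0, WACT_swap2, e0, e2, WACT_X02, hconj2, WACT_winv_y, ← WACT_X12 a c]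
    congr 1
    push_cast
    ring
  intro i j t
  fin_cases i <;> fin_cases j
  · exact h00 t
  · exact h01 t
  · exact h02 t
  · exact h10 t
  · exact h11 t
  · exact h12 t
  · exact h20 t
  · exact h21 t
  · exact h22 t

end Cfsg.Agent.Helper1.SL3P
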