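import Mathlib
import Cfsg.Agent.Helper1.SL3P.Defs
import Cfsg.Agent.Helper9.Sp4P.P_SL2F

/-!
# S2287 piece (XADD) -- see `tools/helper1_s2287/README.md` and board WANTED of helper1.
-/

set_option autoImplicit false

namespace Cfsg.Agent.Helper1.SL3P

open Matrix Cfsg.Agent.Helper96.StemSLTwo Cfsg.Agent.Helper96.StPres Cfsg.Agent.Helper9.Sp4P

universe u v

variable {K : Type u} [Field K] {D : Type v} [Group D]

theorem X3_add (a : SL2 K →* D) (c : D) (i j : Fin 3) (t u : K) :
    X3 a c i j (t + u) = X3 a c i j t * X3 a c i j u := by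
  have hx := (sl2Facts a).x_add
  have hy := (sl2Facts a).y_add
  fin_cases i <;> fin_cases j
  · show (1 : D) = 1 * 1
    group
  · show xe a (t + u) = xe a t * xe a u
    exact hx t u
  · show c * c * ye a (t + u) * (c * c)⁻¹ = c * c * ye a t * (c * c)⁻¹ * (c * c * ye a u * (c * c)⁻¹)
    rw [hy]; group
  · show ye a (t + u) = ye a t * ye a u
    exact hy t u
  · show (1 : D) = 1 * 1
    group
  · show c * xe a (t + u) * c⁻¹ = c * xe a t * c⁻¹ * (c * xe a u * c⁻¹)
    rw [hx]; group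
  · show c * c * xe a (t + u) * (c * c)⁻¹ = c * c * xe a t * (c * c)⁻¹ * (c * c * xe a u * (c * c)⁻¹)
    rw [hx]; group
  · show c * ye a (t + u) * c⁻¹ = c * ye a t * c⁻¹ * (c * ye a u * c⁻¹)
    rw [hy]; group
  · show (1 : D) = 1 * 1
    group

end Cfsg.Agent.Helper1.SL3P
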