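import Mathlib
import Cfsg.Agent.Helper1.SL3P.Defs
import Cfsg.Agent.Helper9.Sp4P.P_SL2F
import Cfsg.Agent.Helper9.Sp4P.P_EXT1
import Cfsg.Agent.Helper9.Sp4P.P_SQ
import Cfsg.Agent.Helper9.Sp4P.P_CW
import Cfsg.Agent.Helper9.Sp4P.P_LIFT
import Cfsg.Agent.Helper9.Sp4P.P_DATA
import Cfsg.Agent.Helper46.SL2SubfieldGen
import Cfsg.Agent.Helper34.StNF
import Cfsg.Agent.Helper1.SL3P.P_TCALL
import Cfsg.Agent.Helper1.SL3P.P_ACTX
import Cfsg.Agent.Helper1.SL3P.P_ACTW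
import Cfsg.Agent.Helper1.SL3P.P_ACTY
import Cfsg.Agent.Helper1.SL3P.P_WEYL
import Cfsg.Agent.Helper1.SL3P.P_TP
import Cfsg.Agent.Helper1.SL3P.P_TSHIFT
import Cfsg.Agent.Helper1.SL3P.P_XSHIFT
import Cfsg.Agent.Helper1.SL3P.P_TCOMM
import Cfsg.Agent.Helper1.SL3P.P_TL0
import Cfsg.Agent.Helper1.SL3P.P_TACT
import Cfsg.Agent.Helper1.SL3P.P_WACT
import Cfsg.Agent.Helper1.SL3P.P_XADD
import Cfsg.Agent.Helper1.SL3P.P_FAM
import Cfsg.Agent.Helper1.SL3P.P_CUBE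
import Cfsg.Agent.Helper1.SL3P.P_EXTG
import Cfsg.Agent.Helper1.SL3P.P_EXTQ
import Cfsg.Agent.Helper1.SL3P.P_ST
import Cfsg.Agent.Helper1.SL3P.P_DICK
import Cfsg.Agent.Helper1.SL3P.P_O2B
import Cfsg.Agent.Helper1.SL3P.P_CWB
import Cfsg.Agent.Helper1.SL3P.P_CWO
import Cfsg.Agent.Helper1.SL3P.P_CWE
import Cfsg.Agent.Helper1.SL3P.P_NAT
import Cfsg.Agent.Helper1.SL3P.P_GEN
import Cfsg.Agent.Helper1.SL3P.P_MODX
import Cfsg.Agent.Helper1.SL3P.P_MODB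
import Cfsg.Agent.Helper1.SL3P.P_MODO
import Cfsg.Agent.Helper1.SL3P.P_MODE
import Cfsg.Agent.Helper1.SL3P.P_DATA2

set_option autoImplicit false

namespace Cfsg.Agent.Helper1.SL3P

open Matrix Cfsg.Agent.Helper96.StemSLTwo Cfsg.Agent.Helper96.StPres Cfsg.Agent.Helper9.Sp4P
  Cfsg.Agent.Helper96.StN

universe u v

variable {K : Type u} [Field K] {D : Type v} [Group D]

/-! ## abstract pieces -/

/-! ## assembly of the abstract part -/

theorem torusAct3_of_crossB [Fintype K] {a : SL2 K →* D} {c : D} {z : Kˣ}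
    (hz : ∀ s : Kˣ, ∃ n : ℕ, z ^ n = s) (hB : CrossB a c z) : TorusAct3 a c := by
  have htc := tc_all hz hB.tc
  have hx := act_x hz htc hB.act
  have hw := act_w hz htc hB.wt
  have hy := act_y hx hw
  have htp := torus_prod hB.c3 hB.cw htc hw
  exact ⟨torus_comm hB.c3 htc htp, torus_act hB.c3 (torus_L0 hx hy htp)⟩

theorem weylAct3_of_crossB [Fintype K] {a : SL2 K →* D} {c : D} {z : Kˣ}
    (hz : ∀ s : Kˣ, ∃ n : ℕ, z ^ n = s) (hB : CrossB a c z) : WeylAct3 a c :=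
  ⟨X3_shift hB.c3, weyl_act (weyl_conj hB.c3 hB.cw).1 (weyl_conj hB.c3 hB.cw).2
    (torusAct3_of_crossB hz hB)⟩

theorem stRel_of_crossB [Fintype K] {a : SL2 K →* D} {c : D} {z : Kˣ}
    (hz : ∀ s : Kˣ, ∃ n : ℕ, z ^ n = s) (h4 : Fintype.card K ≠ 4) (hB : CrossB a c z) :
    StRel (X3 a c) :=
  stRel_of_full (X3_add a c) (weylAct3_of_crossB hz hB)
    (full_of_fam (X3_add a c) (cubes_span h4)
      (fam012 (X3_add a c) (torusAct3_of_crossB hz hB) hB.mul))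

theorem stRel_of_crossB_four [Fintype K] {a : SL2 K →* D} {c : D} {z : Kˣ}
    (hz : ∀ s : Kˣ, ∃ n : ℕ, z ^ n = s) (h4 : Fintype.card K = 4) (hB : CrossB a c z)
    (hE : CrossE a c z) : StRel (X3 a c) :=
  stRel_of_full (X3_add a c) (weylAct3_of_crossB hz hB)
    (full_of_fam_four h4 hz (X3_add a c) (torusAct3_of_crossB hz hB)
      (fam012 (X3_add a c) (torusAct3_of_crossB hz hB) hB.mul) hE)

theorem stRel_of_crossO [Fintype K] {a : SL2 K →* D} {c : D} {z : Kˣ}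
    (hz : ∀ s : Kˣ, ∃ n : ℕ, z ^ n = s) (h2 : (2 : K) ≠ 0) (h9 : Fintype.card K ≠ 9)
    (hO : CrossO a c z) : StRel (X3 a c) := by
  have h4 : Fintype.card K ≠ 4 := by
    intro h
    apply h2
    have h0 := FiniteField.cast_card_eq_zero K
    rw [h] at h0
    have h1 : (2 : K) * 2 = 0 := by
      have : ((4 : ℕ) : K) = 2 * 2 := by norm_num
      rw [← this]; exact h0
    exact (mul_self_eq_zero.mp h1)
  exact stRel_of_crossB hz h4 (crossB_of_crossO (closure_u_hw h2 h9 hz) hO)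

end Cfsg.Agent.Helper1.SL3P
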