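import Mathlib
import Cfsg.Agent.Helper1.SL3P.MainA
import Cfsg.Agent.Helper5.SLn

set_option autoImplicit false

namespace Cfsg.Agent.Helper1.SL3P

open Matrix Cfsg.Agent.Helper96.StemSLTwo Cfsg.Agent.Helper96.StPres Cfsg.Agent.Helper9.Sp4P
  Cfsg.Agent.Helper96.StN

universe u v

variable {K : Type u} [Field K] {D : Type v} [Group D]

/-! ## words and structures -/

/-! ## the model -/

section model

variable (F : Type u) [Field F]

end model

/-! ## the presented group -/

/-- the first three of the four generators -/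
def i3 : Fin 3 → Fin 4 := fun i => ⟨i.val, by omega⟩

section pres

variable {F : Type u} [Field F] (d : SL2Pres F) (cw : List (FreeGroup (Fin 4)))

/-- the relators of `SL₃(F)`: the relators of `SL₂(F)` and a list of cross relators -/
noncomputable def rels4 : Finset (FreeGroup (Fin 4)) :=
  d.rels.image (FreeGroup.map i3) ∪ cw.toFinset

theorem card_rels4 : (rels4 d cw).card ≤ d.rels.card + cw.length := by
  have h1 := Finset.card_image_le (s := d.rels) (f := FreeGroup.map i3)
  have h3 : cw.toFinset.card ≤ cw.length := List.toFinset_card_le _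
  have h4 := Finset.card_union_le (d.rels.image (FreeGroup.map i3)) cw.toFinset
  unfold rels4
  omega

theorem map_i3_mem (r : FreeGroup (Fin 3)) (hr : r ∈ (↑d.rels : Set (FreeGroup (Fin 3)))) :
    FreeGroup.map i3 r ∈ (↑(rels4 d cw) : Set (FreeGroup (Fin 4))) := by
  rw [Finset.mem_coe] at hr ⊢
  unfold rels4
  exact Finset.mem_union_left _ (Finset.mem_image_of_mem _ hr)

theorem cw_mem (r : FreeGroup (Fin 4)) (hr : r ∈ cw) :
    r ∈ (↑(rels4 d cw) : Set (FreeGroup (Fin 4))) := by
  rw [Finset.mem_coe]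
  unfold rels4
  exact Finset.mem_union_right _ (List.mem_toFinset.2 hr)

/-- the homomorphism of presented groups induced by the inclusion of the generators -/
noncomputable def lam : PresentedGroup (↑d.rels : Set (FreeGroup (Fin 3))) →*
    PresentedGroup (↑(rels4 d cw) : Set (FreeGroup (Fin 4))) :=
  Classical.choose (exists_presented_map i3 _ _ (map_i3_mem d cw))

theorem lam_mk (w : FreeGroup (Fin 3)) :
    lam d cw (PresentedGroup.mk _ w) = PresentedGroup.mk _ (FreeGroup.map i3 w) :=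
  Classical.choose_spec (exists_presented_map i3 _ _ (map_i3_mem d cw)) w

/-- the homomorphism from `SL₂(F)` -/
noncomputable def homA : SL2 F →* PresentedGroup (↑(rels4 d cw) : Set (FreeGroup (Fin 4))) :=
  (lam d cw).comp (MulEquiv.ofBijective d.pi d.bij).symm.toMonoidHom

theorem homA_pi (w : FreeGroup (Fin 3)) :
    homA d cw (d.pi (PresentedGroup.mk _ w)) = PresentedGroup.mk _ (FreeGroup.map i3 w) := by
  unfold homA
  rw [MonoidHom.comp_apply]
  have e : (MulEquiv.ofBijective d.pi d.bij).symm.toMonoidHom (d.pi (PresentedGroup.mk _ w)) =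
      PresentedGroup.mk _ w := by
    change (MulEquiv.ofBijective d.pi d.bij).symm (d.pi (PresentedGroup.mk _ w)) = _
    rw [MulEquiv.symm_apply_eq]
    rfl
  rw [e, lam_mk]

/-- the fourth generator -/
noncomputable def cP : PresentedGroup (↑(rels4 d cw) : Set (FreeGroup (Fin 4))) :=
  PresentedGroup.mk _ (FreeGroup.of 3)

/-- the images of the four generators in `SL₃(F)` -/
noncomputable def gens4 : Fin 4 → SL3 F := fun i =>
  if h : i.val < 3 then eA F (d.pi (PresentedGroup.of ⟨i.val, h⟩)) else cM F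

theorem gens4_i3 (i : Fin 3) : gens4 d (i3 i) = eA F (d.pi (PresentedGroup.of i)) := by
  unfold gens4 i3
  rw [dif_pos i.isLt]

theorem gens4_three : gens4 d 3 = cM F := by
  unfold gens4
  rw [dif_neg (by decide)]

theorem lift_map_i3 (w : FreeGroup (Fin 3)) :
    FreeGroup.lift (gens4 d) (FreeGroup.map i3 w) = eA F (d.pi (PresentedGroup.mk _ w)) := by
  have h : (FreeGroup.lift (gens4 d)).comp (FreeGroup.map i3) =
      ((eA F).comp d.pi).comp (PresentedGroup.mk _) := by
    apply FreeGroup.ext_hom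
    intro i
    simp only [MonoidHom.comp_apply, FreeGroup.map.of, FreeGroup.lift_apply_of, gens4_i3]
    rfl
  exact DFunLike.congr_fun h w

theorem lift_three : FreeGroup.lift (gens4 d) (FreeGroup.of 3) = cM F := by
  rw [FreeGroup.lift_apply_of, gens4_three]

variable (hmodel : ∀ r ∈ cw, FreeGroup.lift (gens4 d) r = 1)

theorem gens4_rels (hmodel : ∀ r ∈ cw, FreeGroup.lift (gens4 d) r = 1) :
    ∀ r ∈ (↑(rels4 d cw) : Set (FreeGroup (Fin 4))), FreeGroup.lift (gens4 d) r = 1 := by
  intro r hr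
  rw [Finset.mem_coe, rels4, Finset.mem_union, Finset.mem_image, List.mem_toFinset] at hr
  rcases hr with ⟨r', hr', rfl⟩ | hr
  · rw [lift_map_i3, PresentedGroup.one_of_mem (Finset.mem_coe.2 hr'), map_one, map_one]
  · exact hmodel r hr

/-- the homomorphism to `SL₃(F)` -/
noncomputable def phi (hmodel : ∀ r ∈ cw, FreeGroup.lift (gens4 d) r = 1) :
    PresentedGroup (↑(rels4 d cw) : Set (FreeGroup (Fin 4))) →* SL3 F :=
  PresentedGroup.toGroup (gens4_rels d cw hmodel)

theorem phi_mk (hmodel : ∀ r ∈ cw, FreeGroup.lift (gens4 d) r = 1) (w : FreeGroup (Fin 4)) :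
    phi d cw hmodel (PresentedGroup.mk _ w) = FreeGroup.lift (gens4 d) w := by
  have h : (phi d cw hmodel).comp (PresentedGroup.mk _) = FreeGroup.lift (gens4 d) := by
    apply FreeGroup.ext_hom
    intro i
    rw [MonoidHom.comp_apply, FreeGroup.lift_apply_of]
    exact PresentedGroup.toGroup.of _
  exact DFunLike.congr_fun h w

theorem phi_homA (hmodel : ∀ r ∈ cw, FreeGroup.lift (gens4 d) r = 1) :
    (phi d cw hmodel).comp (homA d cw) = eA F := by
  apply MonoidHom.ext
  intro g
  obtain ⟨x, rfl⟩ := d.bij.2 g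
  obtain ⟨w, rfl⟩ := QuotientGroup.mk_surjective x
  rw [MonoidHom.comp_apply]
  change phi d cw hmodel (homA d cw (d.pi (PresentedGroup.mk _ w))) = _
  rw [homA_pi, phi_mk, lift_map_i3]
  rfl

theorem phi_cP (hmodel : ∀ r ∈ cw, FreeGroup.lift (gens4 d) r = 1) :
    phi d cw hmodel (cP d cw) = cM F := by
  unfold cP
  rw [phi_mk, lift_three]

theorem phi_X3 (hmodel : ∀ r ∈ cw, FreeGroup.lift (gens4 d) r = 1) (i j : Fin 3) (h : i ≠ j)
    (t : F) :
    phi d cw hmodel (X3 (homA d cw) (cP d cw) i j t) =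
      Matrix.SpecialLinearGroup.transvection h t := by
  rw [map_X3, phi_homA, phi_cP]
  exact X3_model F i j h t

/-- the words `x(1)`, `h(z)`, `w(1)`, `x(z⁻¹)` in the presented group -/
theorem homA_words :
    xe (homA d cw) 1 = PresentedGroup.mk _ (FreeGroup.map i3 d.uw) ∧
    he (homA d cw) d.z = PresentedGroup.mk _ (FreeGroup.map i3 d.hw) ∧
    we (homA d cw) = PresentedGroup.mk _ (FreeGroup.map i3 d.ww) ∧
    xe (homA d cw) ((d.z : F)⁻¹) = PresentedGroup.mk _ (FreeGroup.map i3 d.gw) := by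
  refine ⟨?_, ?_, ?_, ?_⟩
  · unfold xe; rw [← d.pi_u, homA_pi]
  · unfold he; rw [← d.pi_h, homA_pi]
  · unfold we; rw [← d.pi_w, homA_pi]
  · unfold xe; rw [← d.pi_g, homA_pi]

theorem gen_P (hc3 : cP d cw * cP d cw * cP d cw = 1)
    (hcw : we (homA d cw) * (cP d cw)⁻¹ * we (homA d cw) * (cP d cw)⁻¹ = 1) :
    Subgroup.closure {g | ∃ i j, i ≠ j ∧ ∃ t, g = X3 (homA d cw) (cP d cw) i j t} = ⊤ := by
  rw [eq_top_iff, ← PresentedGroup.closure_range_of, Subgroup.closure_le]
  rintro _ ⟨i, rfl⟩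
  obtain ⟨hL, hc⟩ := gen_X3 hc3 hcw
  by_cases h : i.val < 3
  · apply hL
    refine ⟨d.pi (PresentedGroup.of ⟨i.val, h⟩), ?_⟩
    change homA d cw (d.pi (PresentedGroup.mk _ (FreeGroup.of ⟨i.val, h⟩))) = _
    rw [homA_pi, FreeGroup.map.of]
    rfl
  · have e : i = 3 := by
      apply Fin.ext
      have := i.isLt
      change i.val = 3
      omega
    rw [e]
    exact hc

theorem phi_bijective [Fintype F] (hmodel : ∀ r ∈ cw, FreeGroup.lift (gens4 d) r = 1)
    (hc3 : cP d cw * cP d cw * cP d cw = 1)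
    (hcw : we (homA d cw) * (cP d cw)⁻¹ * we (homA d cw) * (cP d cw)⁻¹ = 1)
    (hX : StRel (X3 (homA d cw) (cP d cw))) : Function.Bijective (phi d cw hmodel) := by
  refine ⟨Cfsg.Agent.Helper96.StN.phi_injective (le_refl 3) hX (gen_P d cw hc3 hcw)
    (phi d cw hmodel) (phi_X3 d cw hmodel), ?_⟩
  rw [← MonoidHom.range_eq_top, eq_top_iff,
    ← Cfsg.Agent.Helper5.closure_transvection_eq_top (ι := Fin 3) (F := F), Subgroup.closure_le]
  rintro _ ⟨i, j, hij, t, rfl⟩
  exact ⟨X3 (homA d cw) (cP d cw) i j t, phi_X3 d cw hmodel i j hij t⟩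

/-- the five cross relators for odd `q` as words in the four generators -/
noncomputable def cwO : List (FreeGroup (Fin 4)) :=
  wordsO (FreeGroup.map i3 d.uw) (FreeGroup.map i3 d.hw) (FreeGroup.map i3 d.ww)
    (FreeGroup.map i3 d.gw) (FreeGroup.of 3)

/-- the six basic cross relators as words in the four generators -/
noncomputable def cwB : List (FreeGroup (Fin 4)) :=
  wordsB (FreeGroup.map i3 d.uw) (FreeGroup.map i3 d.hw) (FreeGroup.map i3 d.ww)
    (FreeGroup.map i3 d.gw) (FreeGroup.of 3)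

/-- the three extra cross relators as words in the four generators -/
noncomputable def cwE : List (FreeGroup (Fin 4)) :=
  wordsE (FreeGroup.map i3 d.uw) (FreeGroup.map i3 d.hw) (FreeGroup.map i3 d.ww)
    (FreeGroup.of 3)

theorem model_cwO : ∀ r ∈ cwO d, FreeGroup.lift (gens4 d) r = 1 := by
  intro r hr
  have h1 : FreeGroup.lift (gens4 d) r ∈ (cwO d).map (FreeGroup.lift (gens4 d)) :=
    List.mem_map_of_mem hr
  rw [cwO, map_wordsO, lift_map_i3, lift_map_i3, lift_map_i3, lift_map_i3, lift_three,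
    d.pi_u, d.pi_h, d.pi_w, d.pi_g] at h1
  exact (crossO_iff_words (eA F) (cM F) d.z).1 (crossO_model F d.z) _ h1

theorem model_cwB : ∀ r ∈ cwB d, FreeGroup.lift (gens4 d) r = 1 := by
  intro r hr
  have h1 : FreeGroup.lift (gens4 d) r ∈ (cwB d).map (FreeGroup.lift (gens4 d)) :=
    List.mem_map_of_mem hr
  rw [cwB, map_wordsB, lift_map_i3, lift_map_i3, lift_map_i3, lift_map_i3, lift_three,
    d.pi_u, d.pi_h, d.pi_w, d.pi_g] at h1
  exact (crossB_iff_words (eA F) (cM F) d.z).1 (crossB_model F d.z) _ h1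

theorem model_cwE : ∀ r ∈ cwE d, FreeGroup.lift (gens4 d) r = 1 := by
  intro r hr
  have h1 : FreeGroup.lift (gens4 d) r ∈ (cwE d).map (FreeGroup.lift (gens4 d)) :=
    List.mem_map_of_mem hr
  rw [cwE, map_wordsE, lift_map_i3, lift_map_i3, lift_map_i3, lift_three,
    d.pi_u, d.pi_h, d.pi_w] at h1
  exact (crossE_iff_words (eA F) (cM F) d.z).1 (crossE_model F d.z) _ h1

theorem crossO_P (hsub : ∀ r ∈ cwO d, r ∈ cw) : CrossO (homA d cw) (cP d cw) d.z := by
  rw [crossO_iff_words]
  intro w hw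
  obtain ⟨e1, e2, e3, e4⟩ := homA_words d cw
  rw [e1, e2, e3, e4, cP,
    ← map_wordsO (PresentedGroup.mk (↑(rels4 d cw) : Set (FreeGroup (Fin 4))))] at hw
  obtain ⟨r, hr, rfl⟩ := List.mem_map.1 hw
  exact PresentedGroup.one_of_mem (cw_mem d cw r (hsub r hr))

theorem crossB_P (hsub : ∀ r ∈ cwB d, r ∈ cw) : CrossB (homA d cw) (cP d cw) d.z := by
  rw [crossB_iff_words]
  intro w hw
  obtain ⟨e1, e2, e3, e4⟩ := homA_words d cw
  rw [e1, e2, e3, e4, cP,
    ← map_wordsB (PresentedGroup.mk (↑(rels4 d cw) : Set (FreeGroup (Fin 4))))] at hw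
  obtain ⟨r, hr, rfl⟩ := List.mem_map.1 hw
  exact PresentedGroup.one_of_mem (cw_mem d cw r (hsub r hr))

theorem crossE_P (hsub : ∀ r ∈ cwE d, r ∈ cw) : CrossE (homA d cw) (cP d cw) d.z := by
  rw [crossE_iff_words]
  intro w hw
  obtain ⟨e1, e2, e3, -⟩ := homA_words d cw
  rw [e1, e2, e3, cP,
    ← map_wordsE (PresentedGroup.mk (↑(rels4 d cw) : Set (FreeGroup (Fin 4))))] at hw
  obtain ⟨r, hr, rfl⟩ := List.mem_map.1 hw
  exact PresentedGroup.one_of_mem (cw_mem d cw r (hsub r hr))

end pres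

/-- **S2287** -/
theorem sl3_presentation {F : Type u} [Field F] [Fintype F] (hq9 : Fintype.card F ≠ 9) :
    ∃ rels : Finset (FreeGroup (Fin 4)), rels.card ≤ 14 ∧
      Nonempty (PresentedGroup (↑rels : Set (FreeGroup (Fin 4))) ≃*
        Matrix.SpecialLinearGroup (Fin 3) F) := by
  by_cases h2 : (2 : F) = 0
  · obtain ⟨d, hd⟩ := exists_sl2Pres_even F h2
    by_cases h4 : Fintype.card F = 4
    · -- q = 4
      let cw := cwB d ++ cwE d
      have hmodel : ∀ r ∈ cw, FreeGroup.lift (gens4 d) r = 1 := by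
        intro r hr
        rcases List.mem_append.1 hr with h | h
        · exact model_cwB d r h
        · exact model_cwE d r h
      have hB : CrossB (homA d cw) (cP d cw) d.z :=
        crossB_P d cw (fun r hr => List.mem_append_left _ hr)
      have hE : CrossE (homA d cw) (cP d cw) d.z :=
        crossE_P d cw (fun r hr => List.mem_append_right _ hr)
      refine ⟨rels4 d cw, ?_, ⟨MulEquiv.ofBijective (phi d cw hmodel)
        (phi_bijective d cw hmodel hB.c3 hB.cw (stRel_of_crossB_four d.hz h4 hB hE))⟩⟩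
      have h1 := card_rels4 d cw
      have h3 : cw.length = 9 := by
        simp only [cw, List.length_append, cwB, cwE, length_wordsB, length_wordsE]
      omega
    · let cw := cwB d
      have hmodel : ∀ r ∈ cw, FreeGroup.lift (gens4 d) r = 1 := model_cwB d
      have hB : CrossB (homA d cw) (cP d cw) d.z := crossB_P d cw (fun r hr => hr)
      refine ⟨rels4 d cw, ?_, ⟨MulEquiv.ofBijective (phi d cw hmodel)
        (phi_bijective d cw hmodel hB.c3 hB.cw (stRel_of_crossB d.hz h4 hB))⟩⟩
      have h1 := card_rels4 d cw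
      have h3 : cw.length = 6 := by
        simp only [cw, cwB, length_wordsB]
      omega
  · obtain ⟨d, hd⟩ := exists_sl2Pres F
    let cw := cwO d
    have hmodel : ∀ r ∈ cw, FreeGroup.lift (gens4 d) r = 1 := model_cwO d
    have hO : CrossO (homA d cw) (cP d cw) d.z := crossO_P d cw (fun r hr => hr)
    refine ⟨rels4 d cw, ?_, ⟨MulEquiv.ofBijective (phi d cw hmodel)
      (phi_bijective d cw hmodel hO.c3 hO.cw (stRel_of_crossO d.hz h2 hq9 hO))⟩⟩
    have h1 := card_rels4 d cw
    have h3 : cw.length = 5 := by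
      simp only [cw, cwO, length_wordsO]
    omega

end Cfsg.Agent.Helper1.SL3P
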