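import Mathlib
import Cfsg.Agent.Helper1.SL3P.Main

/-!
# `SL₃(q)` for every `q` (also `q = 9`) on 4 generators with at most 18 relators

Same construction as `sl3_presentation` (S2287), with the basic cross relators `cwB` for every `q`
(no use of Dickson's theorem, so `q = 9` is allowed).  Used for the case `n = 3` of S2290.
-/

set_option autoImplicit false

namespace Cfsg.Agent.Helper1.SL3P

open Matrix Cfsg.Agent.Helper96.StemSLTwo Cfsg.Agent.Helper96.StPres Cfsg.Agent.Helper9.Sp4P
  Cfsg.Agent.Helper96.StN

universe u

theorem sl3_presentation_all {F : Type u} [Field F] [Fintype F] :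
    ∃ rels : Finset (FreeGroup (Fin 4)), rels.card ≤ 18 ∧
      Nonempty (PresentedGroup (↑rels : Set (FreeGroup (Fin 4))) ≃*
        Matrix.SpecialLinearGroup (Fin 3) F) := by
  obtain ⟨d, hd⟩ := exists_sl2Pres F
  by_cases h4 : Fintype.card F = 4
  · let cw := cwB d ++ cwE d
    have hmodel : ∀ r ∈ cw, FreeGroup.lift (gens4 d) r = 1 := by
      intro r hr
      rcases List.mem_append.1 hr with h | h
      · exact model_cwB d r h
      · exact model_cwE d r h
    have hB : CrossB (homA d cw) (cP d cw) d.z :=
      crossB_P d cw (fun r hr => List.mem_append_left _ hr)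
    have hE : CrossE (homA d cw) (cP d cw) d.z :=
      crossE_P d cw (fun r hr => List.mem_append_right _ hr)
    refine ⟨rels4 d cw, ?_, ⟨MulEquiv.ofBijective (phi d cw hmodel)
      (phi_bijective d cw hmodel hB.c3 hB.cw (stRel_of_crossB_four d.hz h4 hB hE))⟩⟩
    have h1 := card_rels4 d cw
    have h3 : cw.length = 9 := by
      simp only [cw, List.length_append, cwB, cwE, length_wordsB, length_wordsE]
    omega
  · let cw := cwB d
    have hmodel : ∀ r ∈ cw, FreeGroup.lift (gens4 d) r = 1 := model_cwB d
    have hB : CrossB (homA d cw) (cP d cw) d.z := crossB_P d cw (fun r hr => hr)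
    refine ⟨rels4 d cw, ?_, ⟨MulEquiv.ofBijective (phi d cw hmodel)
      (phi_bijective d cw hmodel hB.c3 hB.cw (stRel_of_crossB d.hz h4 hB))⟩⟩
    have h1 := card_rels4 d cw
    have h3 : cw.length = 6 := by
      simp only [cw, cwB, length_wordsB]
    omega

end Cfsg.Agent.Helper1.SL3P
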