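import Mathlib
import Cfsg.Agent.Helper1.SL3P.Defs
import Cfsg.Agent.Helper9.Sp4P.P_SL2F
import Cfsg.Agent.Helper9.Sp4P.P_CW

/-!
# S2287 piece (ACTW) -- see `tools/helper1_s2287/README.md` and board WANTED of helper1.
-/

set_option autoImplicit false

namespace Cfsg.Agent.Helper1.SL3P

open Matrix Cfsg.Agent.Helper96.StemSLTwo Cfsg.Agent.Helper96.StPres Cfsg.Agent.Helper9.Sp4P

universe u v

variable {K : Type u} [Field K] {D : Type v} [Group D]

theorem act_w {a : SL2 K →* D} {c : D} {z : Kˣ} (hz : ∀ s : Kˣ, ∃ n : ℕ, z ^ n = s)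
    (htc : ∀ s s' : Kˣ, Commute (c * he a s * c⁻¹) (he a s'))
    (hwt : (c * he a z * c⁻¹) * we a * (c * he a z * c⁻¹)⁻¹ = (he a z)⁻¹ * we a) :
    ∀ s : Kˣ, (c * he a s * c⁻¹) * we a * (c * he a s * c⁻¹)⁻¹ = (he a s)⁻¹ * we a := by
  have key : ∀ n : ℕ, (c * he a (z ^ n) * c⁻¹) * we a * (c * he a (z ^ n) * c⁻¹)⁻¹ =
      (he a (z ^ n))⁻¹ * we a := by
    intro n
    induction n with
    | zero =>
      rw [pow_zero, CW_he_one]
      group
    | succ n ih =>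
      rw [pow_succ, (sl2Facts a).h_mul]
      have hc : Commute (c * he a (z ^ n) * c⁻¹) (he a z)⁻¹ := (htc (z ^ n) z).inv_right
      calc c * (he a (z ^ n) * he a z) * c⁻¹ * we a * (c * (he a (z ^ n) * he a z) * c⁻¹)⁻¹
          = (c * he a (z ^ n) * c⁻¹) *
              ((c * he a z * c⁻¹) * we a * (c * he a z * c⁻¹)⁻¹) *
              (c * he a (z ^ n) * c⁻¹)⁻¹ := by group
        _ = (c * he a (z ^ n) * c⁻¹) * ((he a z)⁻¹ * we a) * (c * he a (z ^ n) * c⁻¹)⁻¹ := by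
            rw [hwt]
        _ = ((c * he a (z ^ n) * c⁻¹) * (he a z)⁻¹) * we a * (c * he a (z ^ n) * c⁻¹)⁻¹ := by
            group
        _ = ((he a z)⁻¹ * (c * he a (z ^ n) * c⁻¹)) * we a * (c * he a (z ^ n) * c⁻¹)⁻¹ := by
            rw [hc.eq]
        _ = (he a z)⁻¹ * ((c * he a (z ^ n) * c⁻¹) * we a * (c * he a (z ^ n) * c⁻¹)⁻¹) := by
            group
        _ = (he a z)⁻¹ * ((he a (z ^ n))⁻¹ * we a) := by rw [ih]
        _ = (he a (z ^ n) * he a z)⁻¹ * we a := by group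
  intro s
  obtain ⟨n, rfl⟩ := hz s
  exact key n

end Cfsg.Agent.Helper1.SL3P
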