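import Mathlib
import Cfsg.Agent.Helper1.SL3P.Defs
import Cfsg.Agent.Helper9.Sp4P.P_SL2F
import Cfsg.Agent.Helper9.Sp4P.P_EXT1
import Cfsg.Agent.Helper9.Sp4P.P_SQ
import Cfsg.Agent.Helper9.Sp4P.P_CW

/-!
# S2287 piece (CUBE) -- see `tools/helper1_s2287/README.md` and board WANTED of helper1.
-/

set_option autoImplicit false

namespace Cfsg.Agent.Helper1.SL3P

open Matrix Cfsg.Agent.Helper96.StemSLTwo Cfsg.Agent.Helper96.StPres Cfsg.Agent.Helper9.Sp4P
  Cfsg.Agent.Helper96.StN

universe u v

variable {K : Type u} [Field K] {D : Type v} [Group D]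

open Polynomial in
theorem CUBE_fiber [Fintype K] [DecidableEq K] (b : K) :
    ((Finset.univ : Finset Kˣ).filter fun s : Kˣ => ((s : K) ^ 3) = b).card ≤ 3 := by
  classical
  have h1 : ((Finset.univ : Finset Kˣ).filter fun s : Kˣ => ((s : K) ^ 3) = b).card ≤
      (nthRoots 3 b).toFinset.card := by
    apply Finset.card_le_card_of_injOn (fun s : Kˣ => (s : K))
    · intro s hs
      have hs' : ((s : K) ^ 3) = b := by simpa using hs
      simp only [Finset.mem_coe, Multiset.mem_toFinset]
      rw [mem_nthRoots (by norm_num)]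
      exact hs'
    · intro s _ t _ hst
      exact Units.ext hst
  exact h1.trans ((Multiset.toFinset_card_le _).trans (card_nthRoots 3 b))

theorem cubes_span [Fintype K] (h4 : Fintype.card K ≠ 4) :
    AddSubgroup.closure {t : K | ∃ s : Kˣ, t = (s : K) ^ 3} = ⊤ := by
  classical
  set C : Set K := {t : K | ∃ s : Kˣ, t = (s : K) ^ 3} with hC
  set E : AddSubgroup K := AddSubgroup.closure C with hE
  have hCE : ∀ c ∈ C, c ∈ E := fun c hc => AddSubgroup.subset_closure hc
  have h1C : (1 : K) ∈ C := ⟨1, by simp⟩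
  have h1E : (1 : K) ∈ E := hCE 1 h1C
  -- closed under multiplication
  have hmulC : ∀ c ∈ C, ∀ b ∈ E, c * b ∈ E := by
    intro c hc b hb
    induction hb using AddSubgroup.closure_induction with
    | mem x hx =>
      obtain ⟨s, rfl⟩ := hc
      obtain ⟨t, rfl⟩ := hx
      exact hCE _ ⟨s * t, by push_cast; ring⟩
    | zero => rw [mul_zero]; exact E.zero_mem
    | add x y _ _ hx hy => rw [mul_add]; exact E.add_mem hx hy
    | neg x _ hx => rw [mul_neg]; exact E.neg_mem hx
  have hmul : ∀ a ∈ E, ∀ b ∈ E, a * b ∈ E := by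
    intro a ha b hb
    induction ha using AddSubgroup.closure_induction with
    | mem x hx => exact hmulC x hx b hb
    | zero => rw [zero_mul]; exact E.zero_mem
    | add x y _ _ hx hy => rw [add_mul]; exact E.add_mem hx hy
    | neg x _ hx => rw [neg_mul]; exact E.neg_mem hx
  have hpow : ∀ a ∈ E, ∀ n : ℕ, a ^ n ∈ E := by
    intro a ha n
    induction n with
    | zero => rw [pow_zero]; exact h1E
    | succ n ih => rw [pow_succ]; exact hmul _ ih _ ha
  have hq2 : 2 ≤ Fintype.card K := Fintype.one_lt_card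
  have hinv : ∀ a ∈ E, a ≠ 0 → a⁻¹ ∈ E := by
    intro a ha ha0
    have h1 : a ^ (Fintype.card K - 1) = 1 := FiniteField.pow_card_sub_one_eq_one a ha0
    have h2 : a⁻¹ = a ^ (Fintype.card K - 2) := by
      apply inv_eq_of_mul_eq_one_right
      rw [← pow_succ', show Fintype.card K - 2 + 1 = Fintype.card K - 1 by omega, h1]
    rw [h2]
    exact hpow a ha _
  -- counting
  set Cf : Finset K := (Finset.univ : Finset Kˣ).image (fun s : Kˣ => (s : K) ^ 3) with hCf
  set Ef : Finset K := Finset.univ.filter (fun x => x ∈ E) with hEf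
  have hcardE : Nat.card E = Ef.card := by
    rw [Nat.card_eq_fintype_card, Fintype.card_subtype]
  have hsub : insert (0 : K) Cf ⊆ Ef := by
    intro x hx
    rw [Finset.mem_insert] at hx
    rw [hEf, Finset.mem_filter]
    refine ⟨Finset.mem_univ _, ?_⟩
    rcases hx with rfl | hx
    · exact E.zero_mem
    · rw [hCf, Finset.mem_image] at hx
      obtain ⟨s, -, rfl⟩ := hx
      exact hCE _ ⟨s, rfl⟩
  have h0Cf : (0 : K) ∉ Cf := by
    intro h
    rw [hCf, Finset.mem_image] at h
    obtain ⟨s, -, hs⟩ := h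
    exact (pow_ne_zero 3 s.ne_zero) hs
  have hcnt1 : Cf.card + 1 ≤ Ef.card := by
    rw [← Finset.card_insert_of_notMem h0Cf]
    exact Finset.card_le_card hsub
  have hcnt2 : Fintype.card K - 1 ≤ 3 * Cf.card := by
    rw [← Fintype.card_units, ← Finset.card_univ]
    exact Finset.card_le_mul_card_image _ 3 (fun b _ => CUBE_fiber b)
  have hidx : Nat.card E * E.index = Fintype.card K := by
    rw [AddSubgroup.card_mul_index, Nat.card_eq_fintype_card]
  have hlt : E.index < 3 := by
    by_contra hge
    push Not at hge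
    have : 3 * Ef.card ≤ Fintype.card K := by
      rw [← hidx, hcardE, mul_comm (Ef.card)]
      exact Nat.mul_le_mul_right _ hge
    omega
  have hpos : E.index ≠ 0 := by
    intro h0
    rw [h0, mul_zero] at hidx
    omega
  have hcases : E.index = 1 ∨ E.index = 2 := by omega
  rcases hcases with h1 | h2
  · exact AddSubgroup.index_eq_one.mp h1
  · exfalso
    -- there is `x ∉ E`
    have hne : E ≠ ⊤ := by
      intro htop
      rw [htop, AddSubgroup.index_top] at h2
      omega
    obtain ⟨x, hx⟩ : ∃ x : K, x ∉ E := by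
      by_contra hall
      push Not at hall
      exact hne (eq_top_iff.mpr fun y _ => hall y)
    -- `E ⊆ {0, 1}`
    have h01 : ∀ a ∈ E, a = 0 ∨ a = 1 := by
      intro a ha
      by_contra hcon
      push Not at hcon
      obtain ⟨ha0, ha1⟩ := hcon
      have hax : a * x ∉ E := by
        intro h
        have := hmul _ (hinv a ha ha0) _ h
        rw [← mul_assoc, inv_mul_cancel₀ ha0, one_mul] at this
        exact hx this
      have hnx : -x ∉ E := fun h => hx (by simpa using E.neg_mem h)
      have h3 : a * x + -x ∈ E := by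
        rw [AddSubgroup.add_mem_iff_of_index_two h2]
        exact ⟨fun h => absurd h hax, fun h => absurd h hnx⟩
      have h4 : a - 1 ∈ E := E.sub_mem ha h1E
      have h5 : a - 1 ≠ 0 := sub_ne_zero.mpr ha1
      have := hmul _ (hinv _ h4 h5) _ h3
      have e : (a - 1)⁻¹ * (a * x + -x) = x := by
        have : a * x + -x = (a - 1) * x := by ring
        rw [this, ← mul_assoc, inv_mul_cancel₀ h5, one_mul]
      rw [e] at this
      exact hx this
    have hEf2 : Ef.card ≤ 2 := by
      have : Ef ⊆ {0, 1} := by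
        intro y hy
        rw [hEf, Finset.mem_filter] at hy
        rcases h01 y hy.2 with rfl | rfl <;> simp
      exact (Finset.card_le_card this).trans Finset.card_le_two
    rw [h2, hcardE] at hidx
    have h0E : (0 : K) ∈ Ef := by rw [hEf, Finset.mem_filter]; exact ⟨Finset.mem_univ _, E.zero_mem⟩
    have h1Ef : (1 : K) ∈ Ef := by rw [hEf, Finset.mem_filter]; exact ⟨Finset.mem_univ _, h1E⟩
    have hEf1 : 1 < Ef.card := Finset.one_lt_card.mpr ⟨0, h0E, 1, h1Ef, zero_ne_one⟩
    omega


end Cfsg.Agent.Helper1.SL3P
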