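import Mathlib
import Cfsg.Agent.Helper1.SL3P.Defs
import Cfsg.Agent.Helper9.Sp4P.P_SL2F
import Cfsg.Agent.Helper9.Sp4P.P_EXT1
import Cfsg.Agent.Helper9.Sp4P.P_SQ
import Cfsg.Agent.Helper9.Sp4P.P_CW

/-!
# S2287 piece (MODB) -- see `tools/helper1_s2287/README.md` and board WANTED of helper1.
-/

set_option autoImplicit false

namespace Cfsg.Agent.Helper1.SL3P

open Matrix Cfsg.Agent.Helper96.StemSLTwo Cfsg.Agent.Helper96.StPres Cfsg.Agent.Helper9.Sp4P
  Cfsg.Agent.Helper96.StN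

universe u v

variable {K : Type u} [Field K] {D : Type v} [Group D]

variable (F : Type u) [Field F]

theorem MODB_coe_inv_of_mul (g : SL3 F) (N : Matrix (Fin 3) (Fin 3) F)
    (h : (g : Matrix (Fin 3) (Fin 3) F) * N = 1) :
    ((g⁻¹ : SL3 F) : Matrix (Fin 3) (Fin 3) F) = N := by
  have h1 : ((g⁻¹ : SL3 F) : Matrix (Fin 3) (Fin 3) F) * (g : Matrix (Fin 3) (Fin 3) F) = 1 := by
    rw [← Matrix.SpecialLinearGroup.coe_mul, inv_mul_cancel, Matrix.SpecialLinearGroup.coe_one]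
  calc ((g⁻¹ : SL3 F) : Matrix (Fin 3) (Fin 3) F)
      = ((g⁻¹ : SL3 F) : Matrix (Fin 3) (Fin 3) F) * ((g : Matrix (Fin 3) (Fin 3) F) * N) := by
        rw [h, mul_one]
    _ = N := by rw [← mul_assoc, h1, one_mul]

theorem MODB_coe_he (z : Fˣ) :
    ((he (eA F) z : SL3 F) : Matrix (Fin 3) (Fin 3) F) =
      !![(z : F), 0, 0; 0, (z : F)⁻¹, 0; 0, 0, 1] := by
  unfold he
  rw [coe_eA]
  ext i j
  fin_cases i <;> fin_cases j <;> simp [dMat]

theorem MODB_coe_xe (t : F) :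
    ((xe (eA F) t : SL3 F) : Matrix (Fin 3) (Fin 3) F) = !![1, t, 0; 0, 1, 0; 0, 0, 1] := by
  unfold xe
  rw [coe_eA]
  ext i j
  fin_cases i <;> fin_cases j <;> simp [uMat]

theorem MODB_coe_ye (t : F) :
    ((ye (eA F) t : SL3 F) : Matrix (Fin 3) (Fin 3) F) = !![1, 0, 0; t, 1, 0; 0, 0, 1] := by
  unfold ye
  rw [coe_eA]
  ext i j
  fin_cases i <;> fin_cases j <;> simp [lMat]

theorem MODB_coe_we :
    ((we (eA F) : SL3 F) : Matrix (Fin 3) (Fin 3) F) = !![0, 1, 0; -1, 0, 0; 0, 0, 1] := by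
  unfold we
  rw [coe_eA]
  have h := WU_coe (1 : F) one_ne_zero
  have e : ∀ i j, (WU (1 : F)).1 i j = (!![0, 1; -(1 : F)⁻¹, 0] : Matrix (Fin 2) (Fin 2) F) i j := by
    intro i j
    exact congrFun (congrFun h i) j
  ext i j
  fin_cases i <;> fin_cases j <;> simp [e]

theorem MODB_coe_cinv :
    (((cM F)⁻¹ : SL3 F) : Matrix (Fin 3) (Fin 3) F) = !![0, 1, 0; 0, 0, 1; 1, 0, 0] := by
  apply MODB_coe_inv_of_mul
  rw [coe_cM]
  ext i j
  fin_cases i <;> fin_cases j <;> simp [Matrix.mul_apply, Fin.sum_univ_three]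

theorem MODB_coe_T (z : Fˣ) :
    ((cM F * he (eA F) z * (cM F)⁻¹ : SL3 F) : Matrix (Fin 3) (Fin 3) F) =
      !![1, 0, 0; 0, (z : F), 0; 0, 0, (z : F)⁻¹] := by
  rw [Matrix.SpecialLinearGroup.coe_mul, Matrix.SpecialLinearGroup.coe_mul, coe_cM, MODB_coe_he,
    MODB_coe_cinv]
  ext i j
  fin_cases i <;> fin_cases j <;> simp [Matrix.mul_apply, Fin.sum_univ_three]

theorem MODB_coe_Tinv (z : Fˣ) :
    (((cM F * he (eA F) z * (cM F)⁻¹)⁻¹ : SL3 F) : Matrix (Fin 3) (Fin 3) F) =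
      !![1, 0, 0; 0, (z : F)⁻¹, 0; 0, 0, (z : F)] := by
  apply MODB_coe_inv_of_mul
  rw [ MODB_coe_T]
  ext i j
  fin_cases i <;> fin_cases j <;> simp [Matrix.mul_apply, Fin.sum_univ_three]

theorem crossB_model (z : Fˣ) : CrossB (eA F) (cM F) z := by
  have hc3 : cM F * cM F * cM F = 1 := by
    apply Subtype.ext
    rw [Matrix.SpecialLinearGroup.coe_mul, Matrix.SpecialLinearGroup.coe_mul, coe_cM,
      Matrix.SpecialLinearGroup.coe_one]
    ext i j
    fin_cases i <;> fin_cases j <;> simp [Matrix.mul_apply, Fin.sum_univ_three]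
  have hccinv : ((cM F * cM F)⁻¹ : SL3 F) = cM F := by
    rw [inv_eq_iff_mul_eq_one]
    exact hc3
  refine ⟨hc3, ?_, ?_, ?_, ?_, ?_⟩
  · apply Subtype.ext
    rw [Matrix.SpecialLinearGroup.coe_mul, Matrix.SpecialLinearGroup.coe_mul,
      Matrix.SpecialLinearGroup.coe_mul, MODB_coe_we, MODB_coe_cinv,
      Matrix.SpecialLinearGroup.coe_one]
    ext i j
    fin_cases i <;> fin_cases j <;> simp [Matrix.mul_apply, Fin.sum_univ_three]
  · show _ * _ = _ * _
    apply Subtype.ext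
    rw [Matrix.SpecialLinearGroup.coe_mul, Matrix.SpecialLinearGroup.coe_mul (he (eA F) z),
      MODB_coe_T, MODB_coe_he]
    ext i j
    fin_cases i <;> fin_cases j <;> simp [Matrix.mul_apply, Fin.sum_univ_three]
  · apply Subtype.ext
    rw [Matrix.SpecialLinearGroup.coe_mul, Matrix.SpecialLinearGroup.coe_mul, MODB_coe_T,
      MODB_coe_Tinv, MODB_coe_xe, MODB_coe_xe]
    ext i j
    fin_cases i <;> fin_cases j <;> simp [Matrix.mul_apply, Fin.sum_univ_three]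
  · rw [eq_inv_mul_iff_mul_eq]
    apply Subtype.ext
    rw [Matrix.SpecialLinearGroup.coe_mul, Matrix.SpecialLinearGroup.coe_mul,
      Matrix.SpecialLinearGroup.coe_mul, MODB_coe_T, MODB_coe_Tinv, MODB_coe_we, MODB_coe_he]
    ext i j
    fin_cases i <;> fin_cases j <;> simp [Matrix.mul_apply, Fin.sum_univ_three]
  · rw [hccinv, mul_inv_eq_iff_eq_mul, mul_inv_eq_iff_eq_mul]
    apply Subtype.ext
    simp only [Matrix.SpecialLinearGroup.coe_mul, MODB_coe_xe, MODB_coe_ye, coe_cM, MODB_coe_cinv]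
    ext i j
    fin_cases i <;> fin_cases j <;> simp [Matrix.mul_apply, Fin.sum_univ_three]

end Cfsg.Agent.Helper1.SL3P
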